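import Cfsg.Agent.CoOneWeak.Base

/-!
An isomorphism of the extraspecial groups of two settings over the identity of the space, and the
pairs of elements of the centralisers inducing the same automorphism on them.
-/

set_option autoImplicit false

open Cfsg Cfsg.Agent.ThreeTrans.OrthCohom Cfsg.Agent.Classical.Quad QuadraticMap Cfsg.Agent.LargeExtra
  Cfsg.Agent.CoOneType
open scoped Classical

namespace Cfsg.Agent.CoTwoUniq.Cent

open Cfsg.Agent.CoOneWeak (Base)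

universe u v

variable {G₁ : Type u} [Group G₁] [Finite G₁] {G₂ : Type v} [Group G₂] [Finite G₂] {z₁ : G₁} {z₂ : G₂}

/-- A matching of the extraspecial groups. -/
structure Match (S₁ : Base z₁) (S₂ : Base z₂) where
  f : G₁ → G₂
  mem : ∀ a ∈ oc z₁, f a ∈ oc z₂
  map_mul : ∀ a ∈ oc z₁, ∀ b ∈ oc z₁, f (a * b) = f a * f b
  map_pr : ∀ a ∈ oc z₁, S₂.pr (f a) = S₁.pr a
  map_z : f z₁ = z₂

variable (S₁ : Base z₁) (S₂ : Base z₂)

/-- The fibre product. -/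
def fibre : Subgroup (G₁ × G₂) where
  carrier := {p | p.1 ∈ oc z₁ ∧ p.2 ∈ oc z₂ ∧ S₁.pr p.1 = S₂.pr p.2}
  one_mem' := ⟨one_mem _, one_mem _, S₁.pr_one.trans S₂.pr_one.symm⟩
  mul_mem' := fun {p q} hp hq => ⟨mul_mem hp.1 hq.1, mul_mem hp.2.1 hq.2.1, by
    show S₁.pr (p.1 * q.1) = S₂.pr (p.2 * q.2)
    rw [S₁.pr_mul _ hp.1 _ hq.1, S₂.pr_mul _ hp.2.1 _ hq.2.1, hp.2.2, hq.2.2]⟩
  inv_mem' := fun {p} hp => ⟨inv_mem hp.1, inv_mem hp.2.1, by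
    show S₁.pr p.1⁻¹ = S₂.pr p.2⁻¹
    rw [S₁.pr_inv hp.1, S₂.pr_inv hp.2.1, hp.2.2]⟩

theorem zp_pair (e : ZMod 2) : ((zp z₁ e, zp z₂ e) : G₁ × G₂) = zp (z₁, z₂) e := by
  rcases CoOneType.zmod_cases e with rfl | rfl
  · simp [zp_zero]
  · simp [zp_one]

theorem exists_match : Nonempty (Match S₁ S₂) := by
  set P := fibre S₁ S₂
  set ζ : G₁ × G₂ := (z₁, z₂)
  set ε : G₁ × G₂ := (1, z₂)
  have hζ : ζ * ζ = 1 := Prod.ext S₁.zz S₂.zz
  have hζP : ζ ∈ P := ⟨S₁.zmem, S₂.zmem, S₁.pr_z.trans S₂.pr_z.symm⟩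
  have hεP : ε ∈ P := ⟨one_mem _, S₂.zmem, S₁.pr_one.trans S₂.pr_z.symm⟩
  let good : Set (Subgroup (G₁ × G₂)) := {T | T ≤ P ∧ ζ ∈ T ∧ ε ∉ T}
  have h0 : Subgroup.zpowers ζ ∈ good := by
    refine ⟨Subgroup.zpowers_le.2 hζP, Subgroup.mem_zpowers _, fun h => ?_⟩
    obtain ⟨k, hk⟩ := h
    have h2 : ζ ^ (2 : ℤ) = 1 := by rw [zpow_two, hζ]
    rcases Int.even_or_odd k with ⟨m, rfl⟩ | ⟨m, rfl⟩
    · have : ζ ^ (m + m) = 1 := by rw [← two_mul, zpow_mul, h2, one_zpow]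
      exact S₂.zne (congrArg Prod.snd (hk.symm.trans this))
    · have : ζ ^ (2 * m + 1) = ζ := by rw [zpow_add, zpow_mul, h2, one_zpow, one_mul, zpow_one]
      exact S₁.zne (congrArg Prod.fst (this.symm.trans hk))
  obtain ⟨T, -, hT⟩ := (Set.toFinite good).exists_le_maximal h0
  obtain ⟨hTP, hζT, hεT⟩ := hT.1
  have hzp : ∀ e, zp ζ e ∈ T := fun e => by
    rcases CoOneType.zmod_cases e with rfl | rfl
    · rw [zp_zero]; exact one_mem _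
    · rw [zp_one]; exact hζT
  have hsq : ∀ p ∈ P, p * p ∈ T := fun p hp => by
    rw [show p * p = zp ζ (qP 4 (S₁.pr p.1)) by
      rw [← zp_pair]
      exact Prod.ext (S₁.pr_sq _ hp.1) (by rw [hp.2.2]; exact S₂.pr_sq _ hp.2.1)]
    exact hzp _
  have hcomm : ∀ p ∈ P, ∀ q ∈ P, p * q * p⁻¹ * q⁻¹ ∈ T := fun p hp q hq => by
    rw [show p * q * p⁻¹ * q⁻¹ = zp ζ (Bp (S₁.pr p.1) (S₁.pr q.1)) by
      rw [← zp_pair]
      exact Prod.ext (S₁.commutator_eq hp.1 hq.1)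
        (by rw [hp.2.2, hq.2.2]; exact S₂.commutator_eq hp.2.1 hq.2.1)]
    exact hzp _
  have hall : ∀ x ∈ P, x ∈ T ∨ x * ε ∈ T := by
    intro x hx
    by_cases hxT : x ∈ T
    · exact Or.inl hxT
    have hcj : ∀ h ∈ T, ∀ y ∈ P, y * h * y⁻¹ ∈ T := fun h hh y hy => by
      rw [show y * h * y⁻¹ = y * h * y⁻¹ * h⁻¹ * h by group]
      exact mul_mem (hcomm y hy h (hTP hh)) hh
    let K : Subgroup (G₁ × G₂) :=
      { carrier := {g | g ∈ T ∨ g * x ∈ T}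
        one_mem' := Or.inl (one_mem T)
        mul_mem' := by
          rintro g h (hg | hg) (hh | hh)
          · exact Or.inl (mul_mem hg hh)
          · exact Or.inr (by rw [mul_assoc]; exact mul_mem hg hh)
          · refine Or.inr ?_
            rw [show g * h * x = g * x * (x⁻¹ * h * x⁻¹⁻¹) by group]
            exact mul_mem hg (hcj h hh _ (inv_mem hx))
          · refine Or.inl ?_
            rw [show g * h = g * x * (x⁻¹ * (h * x) * x⁻¹⁻¹ * (x * x)⁻¹) by group]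
            exact mul_mem hg (mul_mem (hcj _ hh _ (inv_mem hx)) (inv_mem (hsq x hx)))
        inv_mem' := by
          rintro g (hg | hg)
          · exact Or.inl (inv_mem hg)
          · refine Or.inr ?_
            rw [show g⁻¹ * x = x * (g * x)⁻¹ * x⁻¹ * (x * x) by group]
            exact mul_mem (hcj _ (inv_mem hg) x hx) (hsq x hx) }
    have hTK : T ≤ K := fun g hg => Or.inl hg
    have hxK : x ∈ K := Or.inr (hsq x hx)
    have hKP : K ≤ P := by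
      rintro g (hg | hg)
      · exact hTP hg
      · have := mul_mem (hTP hg) (inv_mem hx)
        rwa [mul_inv_cancel_right] at this
    have hεK : ε ∈ K := by
      by_contra hn
      exact hxT (hT.2 ⟨hKP, hTK hζT, hn⟩ hTK hxK)
    rcases hεK with h | h
    · exact absurd h hεT
    · refine Or.inr ?_
      have e : x * ε = ε * x := Prod.ext (by simp [ε]) (S₂.comm hx.2.1)
      rwa [e]
  have hfun : ∀ a ∈ oc z₁, ∃ b, ((a, b) : G₁ × G₂) ∈ T := fun a ha => by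
    obtain ⟨b, hb, hab⟩ := S₂.pr_surj (S₁.pr a)
    rcases hall (a, b) ⟨ha, hb, hab.symm⟩ with h | h
    · exact ⟨b, h⟩
    · exact ⟨b * z₂, by simpa [ε] using h⟩
  choose! f hf using hfun
  have huniq : ∀ {a : G₁} {b : G₂}, ((a, b) : G₁ × G₂) ∈ T → a ∈ oc z₁ → b = f a := by
    intro a b hb ha
    have h := mul_mem (inv_mem (hf a ha)) hb
    have e : ((a, f a) : G₁ × G₂)⁻¹ * (a, b) = (1, (f a)⁻¹ * b) :=
      Prod.ext (inv_mul_cancel a) rfl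
    rw [e] at h
    obtain ⟨-, h2, h3⟩ := hTP h
    rcases S₂.pr_ker _ h2 (h3.symm.trans S₁.pr_one) with e' | e'
    · exact (inv_mul_eq_one.1 e').symm
    · refine absurd h ?_
      change (f a)⁻¹ * b = z₂ at e'
      rw [e']
      exact hεT
  exact ⟨{
    f := f
    mem := fun a ha => (hTP (hf a ha)).2.1
    map_mul := fun a ha b hb => (huniq (mul_mem (hf a ha) (hf b hb)) (mul_mem ha hb)).symm
    map_pr := fun a ha => (hTP (hf a ha)).2.2.symm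
    map_z := (huniq hζT S₁.zmem).symm }⟩

theorem exists_functional (φ : V →+ ZMod 2) : ∃ w : V, ∀ v, Bp w v = φ v :=
  ⟨(LinearMap.BilinForm.toDual (polarBilin (qP 4)) nondegP4).symm (φ.toZModLinearMap 2),
    fun v => LinearMap.BilinForm.apply_toDual_symm_apply (B := polarBilin (qP 4)) (hB := nondegP4)
      (φ.toZModLinearMap 2) v⟩

/-- An involution fixes the axis of its action. -/
theorem axis_fixed {G : Type*} [Group G] [Finite G] {z : G} (S : Base z) {x a : G}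
    (hx : x * z = z * x) (hxx : x * x = 1) (ha : a ∈ oc z) {u : V} (hu : (S.act x).1 u + u = S.pr a)
    (hq : qP 4 (S.pr a) = 0) : x * a * x⁻¹ = a := by
  obtain ⟨b, hb, rfl⟩ := S.pr_surj u
  have hxb := S.nrm hx hb
  have hx' : x⁻¹ = x := inv_eq_of_mul_eq_one_right hxx
  have hB : Bp ((S.act x).1 (S.pr b)) (S.pr b) = 0 := by
    have h2 := q_add ((S.act x).1 (S.pr b)) (S.pr b)
    rw [hu, hq, (S.act x).2, ← two_mul, show (2 : ZMod 2) = 0 from rfl, zero_mul, zero_add] at h2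
    exact h2.symm
  have hc2 : x * b * x⁻¹ * b = b * (x * b * x⁻¹) :=
    (S.commute_iff hxb hb).2 (by rw [S.act_spec x hx b hb]; exact hB)
  have hxab : x * (x * b * x⁻¹ * b) * x⁻¹ = x * b * x⁻¹ * b := by
    rw [show x * (x * b * x⁻¹ * b) * x⁻¹ = (x * x) * b * (x⁻¹ * (b * x⁻¹)) by group, hxx, one_mul,
      hc2, hx']
    group
  rcases S.pr_eq (mul_mem hxb hb) ha (by rw [S.pr_mul _ hxb _ hb, S.act_spec x hx b hb, hu]) with e | e
  · rw [e, hxab]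
  · rw [e, show x * (x * b * x⁻¹ * b * z) * x⁻¹ = x * (x * b * x⁻¹ * b) * x⁻¹ * (x * z * x⁻¹) by group,
      hxab, hx, mul_inv_cancel_right]

variable {S₁ S₂}

namespace Match

variable (ψ : Match S₁ S₂)

theorem map_one : ψ.f 1 = 1 :=
  mul_eq_left.1 ((ψ.map_mul 1 (one_mem _) 1 (one_mem _)).symm.trans (by rw [one_mul]))

theorem map_inv {a : G₁} (ha : a ∈ oc z₁) : ψ.f a⁻¹ = (ψ.f a)⁻¹ :=
  eq_inv_of_mul_eq_one_right (by rw [← ψ.map_mul a ha _ (inv_mem ha), mul_inv_cancel, ψ.map_one])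

theorem map_zp (e : ZMod 2) : ψ.f (zp z₁ e) = zp z₂ e := by
  rcases CoOneType.zmod_cases e with rfl | rfl <;> simp [zp_zero, zp_one, ψ.map_one, ψ.map_z]

theorem surj {b : G₂} (hb : b ∈ oc z₂) : ∃ a ∈ oc z₁, ψ.f a = b := by
  obtain ⟨a, ha, hab⟩ := S₁.pr_surj (S₂.pr b)
  rcases S₂.pr_eq (ψ.mem a ha) hb ((ψ.map_pr a ha).trans hab) with e | e
  · exact ⟨a, ha, e.symm⟩
  · exact ⟨a * z₁, mul_mem ha S₁.zmem, by rw [ψ.map_mul a ha _ S₁.zmem, ψ.map_z, e]⟩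

theorem eq_one {a : G₁} (ha : a ∈ oc z₁) (h : ψ.f a = 1) : a = 1 := by
  rcases S₁.pr_ker a ha (by rw [← ψ.map_pr a ha, h, S₂.pr_one]) with e | e
  · exact e
  · rw [e, ψ.map_z] at h; exact absurd h S₂.zne

/-- The compatible pairs. -/
def pairs : Subgroup (G₁ × G₂) where
  carrier := {p | p.1 * z₁ = z₁ * p.1 ∧ p.2 * z₂ = z₂ * p.2 ∧
    ∀ a ∈ oc z₁, ψ.f (p.1 * a * p.1⁻¹) = p.2 * ψ.f a * p.2⁻¹}
  one_mem' := ⟨by simp, by simp, fun a _ => by simp⟩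
  mul_mem' := fun {p q} hp hq => ⟨Commute.mul_left hp.1 hq.1, Commute.mul_left hp.2.1 hq.2.1,
    fun a ha => by
      show ψ.f (p.1 * q.1 * a * (p.1 * q.1)⁻¹) = p.2 * q.2 * ψ.f a * (p.2 * q.2)⁻¹
      rw [show p.1 * q.1 * a * (p.1 * q.1)⁻¹ = p.1 * (q.1 * a * q.1⁻¹) * p.1⁻¹ by group,
        hp.2.2 _ (S₁.nrm hq.1 ha), hq.2.2 a ha]
      group⟩
  inv_mem' := fun {p} hp => ⟨Commute.inv_left hp.1, Commute.inv_left hp.2.1, fun a ha => by
    have hm : p.1⁻¹ * a * p.1 ∈ oc z₁ := by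
      have := S₁.nrm (Commute.inv_left hp.1).eq ha
      rwa [inv_inv] at this
    show ψ.f (p.1⁻¹ * a * p.1⁻¹⁻¹) = p.2⁻¹ * ψ.f a * p.2⁻¹⁻¹
    have h := hp.2.2 _ hm
    rw [show p.1 * (p.1⁻¹ * a * p.1) * p.1⁻¹ = a by group] at h
    rw [inv_inv, inv_inv, h]
    group⟩

theorem graph_mem {q : G₁} (hq : q ∈ oc z₁) : ((q, ψ.f q) : G₁ × G₂) ∈ ψ.pairs :=
  ⟨S₁.comm hq, S₂.comm (ψ.mem q hq), fun a ha => by
    show ψ.f (q * a * q⁻¹) = ψ.f q * ψ.f a * (ψ.f q)⁻¹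
    rw [ψ.map_mul _ (mul_mem hq ha) _ (inv_mem hq), ψ.map_mul q hq a ha, ψ.map_inv hq]⟩

theorem act_eq {p : G₁ × G₂} (hp : p ∈ ψ.pairs) : S₂.act p.2 = S₁.act p.1 := by
  refine ext_oG fun x => ?_
  obtain ⟨a, ha, rfl⟩ := S₁.pr_surj x
  rw [← S₁.act_spec _ hp.1 a ha, ← ψ.map_pr a ha, ← S₂.act_spec _ hp.2.1 _ (ψ.mem a ha),
    ← hp.2.2 a ha, ψ.map_pr _ (S₁.nrm hp.1 ha)]

/-- The defect of a pair with equal actions is a functional, corrected by an inner element. -/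
theorem exists_defect {c : G₁} {d : G₂} (hc : c * z₁ = z₁ * c) (hd : d * z₂ = z₂ * d)
    (he : S₁.act c = S₂.act d) : ∃ w : V, ∀ a ∈ oc z₁,
      ψ.f (c * a * c⁻¹) = zp z₂ (Bp w ((S₂.act d).1 (S₁.pr a))) * (d * ψ.f a * d⁻¹) := by
  have hdif : ∀ a ∈ oc z₁, ∃ e : ZMod 2, ψ.f (c * a * c⁻¹) = zp z₂ e * (d * ψ.f a * d⁻¹) := fun a ha => by
    have hb := S₂.nrm hd (ψ.mem a ha)
    rcases S₂.pr_eq hb (ψ.mem _ (S₁.nrm hc ha)) (by
      rw [S₂.act_spec d hd _ (ψ.mem a ha), ψ.map_pr _ (S₁.nrm hc ha), S₁.act_spec c hc a ha,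
        ψ.map_pr a ha, he]) with e | e
    · exact ⟨0, by rw [e, zp_zero, one_mul]⟩
    · exact ⟨1, by rw [e, zp_one, S₂.comm hb]⟩
  choose! ε hε using hdif
  choose l hl hlp using S₁.pr_surj
  have hcom : ∀ a ∈ oc z₁, ∀ e, zp z₂ e * (d * ψ.f a * d⁻¹) = d * ψ.f a * d⁻¹ * zp z₂ e :=
    fun a ha e => (S₂.comm_zp (S₂.comm (S₂.nrm hd (ψ.mem a ha))) e).symm
  have hadd : ∀ a ∈ oc z₁, ∀ b ∈ oc z₁, ε (a * b) = ε a + ε b := fun a ha b hb => by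
    have h := hε _ (mul_mem ha hb)
    rw [show c * (a * b) * c⁻¹ = c * a * c⁻¹ * (c * b * c⁻¹) by group,
      ψ.map_mul _ (S₁.nrm hc ha) _ (S₁.nrm hc hb), hε a ha, hε b hb, ψ.map_mul a ha b hb] at h
    refine zp_inj S₂.zne (mul_right_cancel (b := d * (ψ.f a * ψ.f b) * d⁻¹) ?_).symm
    rw [← h, zp_add S₂.zz, show zp z₂ (ε a) * (d * ψ.f a * d⁻¹) * (zp z₂ (ε b) * (d * ψ.f b * d⁻¹)) =
      zp z₂ (ε a) * (d * ψ.f a * d⁻¹ * zp z₂ (ε b)) * (d * ψ.f b * d⁻¹) by group, ← hcom a ha]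
    group
  have hεz : ε z₁ = 0 := by
    have h := hε z₁ S₁.zmem
    rw [hc, mul_inv_cancel_right, ψ.map_z, hd, mul_inv_cancel_right] at h
    refine zp_inj S₂.zne ?_
    rw [zp_zero]
    exact mul_eq_right.1 h.symm
  have hwd : ∀ a ∈ oc z₁, ε a = ε (l (S₁.pr a)) := fun a ha => by
    rcases S₁.pr_eq ha (hl _) (hlp _).symm with e | e <;> rw [e]
    rw [hadd a ha z₁ S₁.zmem, hεz, add_zero]
  let φ : V →+ ZMod 2 := AddMonoidHom.mk' (fun v => ε (l v)) fun x y => by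
    have h := hwd _ (mul_mem (hl x) (hl y))
    rw [S₁.pr_mul _ (hl x) _ (hl y), hlp, hlp] at h
    rw [← h, hadd _ (hl x) _ (hl y)]
  obtain ⟨w, hw⟩ := exists_functional (φ.comp (S₂.act d)⁻¹.1.toAddMonoidHom)
  refine ⟨w, fun a ha => ?_⟩
  rw [hw]
  show _ = zp z₂ (ε (l ((S₂.act d)⁻¹.1 ((S₂.act d).1 (S₁.pr a))))) * _
  rw [oG_inv_apply, ← hwd a ha]
  exact hε a ha

/-- An inner correction of a pair with equal actions. -/
theorem pair_of_defect {c : G₁} {d : G₂} (hc : c * z₁ = z₁ * c) (hd : d * z₂ = z₂ * d) {q : G₂}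
    (hq : q ∈ oc z₂)
    (h : ∀ a ∈ oc z₁, ψ.f (c * a * c⁻¹) = zp z₂ (Bp (S₂.pr q) ((S₂.act d).1 (S₁.pr a))) * (d * ψ.f a * d⁻¹)) :
    (c, q * d) ∈ ψ.pairs := by
  refine ⟨hc, (Commute.mul_left (S₂.comm hq) hd).eq, fun a ha => ?_⟩
  show ψ.f (c * a * c⁻¹) = q * d * ψ.f a * (q * d)⁻¹
  have e := S₂.commutator_eq hq (S₂.nrm hd (ψ.mem a ha))
  rw [S₂.act_spec d hd _ (ψ.mem a ha), ψ.map_pr a ha] at e
  rw [h a ha, ← e]
  group

theorem pairs_surj {c : G₁} {d : G₂} (hc : c * z₁ = z₁ * c) (hd : d * z₂ = z₂ * d)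
    (he : S₁.act c = S₂.act d) : ∃ q ∈ oc z₂, (c, q * d) ∈ ψ.pairs := by
  obtain ⟨w, hw⟩ := ψ.exists_defect hc hd he
  obtain ⟨q, hq, rfl⟩ := S₂.pr_surj w
  exact ⟨q, hq, ψ.pair_of_defect hc hd hq hw⟩

/-- Two involutions with the same action, its axis totally singular and equal to its image, give an
involution among the pairs. -/
theorem pair_involution {c : G₁} {d : G₂} (hc : c * z₁ = z₁ * c) (hd : d * z₂ = z₂ * d)
    (he : S₁.act c = S₂.act d) (hcc : c * c = 1) (hdd : d * d = 1)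
    (hfix : ∀ v, (S₁.act c).1 v = v → ∃ u, (S₁.act c).1 u + u = v)
    (hts : ∀ v, (S₁.act c).1 v = v → qP 4 v = 0)
    (hperp : ∀ w, (∀ v, (S₁.act c).1 v = v → Bp w v = 0) → (S₁.act c).1 w = w) :
    ∃ q ∈ oc z₂, (c, q * d) ∈ ψ.pairs ∧ q * d * (q * d) = 1 := by
  obtain ⟨w, hw⟩ := ψ.exists_defect hc hd he
  have hw0 : ∀ v, (S₁.act c).1 v = v → Bp w v = 0 := by
    intro v hv
    obtain ⟨a, ha, rfl⟩ := S₁.pr_surj v
    obtain ⟨u, hu⟩ := hfix _ hv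
    have h1 : c * a * c⁻¹ = a := axis_fixed S₁ hc hcc ha hu (hts _ hv)
    have h2 : d * ψ.f a * d⁻¹ = ψ.f a :=
      axis_fixed S₂ hd hdd (ψ.mem a ha) (u := u) (by rw [← he, hu, ψ.map_pr a ha])
        (by rw [ψ.map_pr a ha]; exact hts _ hv)
    have h := hw a ha
    rw [h1, h2, ← he, hv] at h
    exact zp_inj S₂.zne ((right_eq_mul.1 h).trans (zp_zero z₂).symm)
  have hww := hperp w hw0
  obtain ⟨q, hq, rfl⟩ := S₂.pr_surj w
  refine ⟨q, hq, ψ.pair_of_defect hc hd hq hw, ?_⟩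
  obtain ⟨u, hu⟩ := hfix _ hww
  have hdq : d * q * d⁻¹ = q := axis_fixed S₂ hd hdd hq (u := u) (by rw [← he, hu]) (hts _ hww)
  have hqq : q * q = 1 := by rw [S₂.pr_sq q hq, hts _ hww, zp_zero]
  calc q * d * (q * d) = q * (d * q * d⁻¹) * (d * d) := by group
    _ = 1 := by rw [hdq, hdd, mul_one, hqq]

/-- The graph of the matching. -/
def graph : Subgroup ↥ψ.pairs where
  carrier := {d | d.1.1 ∈ oc z₁ ∧ d.1.2 = ψ.f d.1.1}
  one_mem' := ⟨one_mem _, ψ.map_one.symm⟩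
  mul_mem' := fun {p q} hp hq => ⟨mul_mem hp.1 hq.1, by
    show p.1.2 * q.1.2 = ψ.f (p.1.1 * q.1.1)
    rw [ψ.map_mul _ hp.1 _ hq.1, hp.2, hq.2]⟩
  inv_mem' := fun {p} hp => ⟨inv_mem hp.1, by
    show p.1.2⁻¹ = ψ.f p.1.1⁻¹
    rw [ψ.map_inv hp.1, hp.2]⟩

instance graph_normal : ψ.graph.Normal :=
  ⟨fun n hn g => ⟨S₁.nrm g.2.1 hn.1, by
    show g.1.2 * n.1.2 * g.1.2⁻¹ = ψ.f (g.1.1 * n.1.1 * g.1.1⁻¹)
    rw [g.2.2.2 _ hn.1, hn.2]⟩⟩

/-- The extension. -/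
abbrev Ext : Type _ := ↥ψ.pairs ⧸ ψ.graph

/-- The induced isometry. -/
noncomputable def proj : ψ.Ext →* O :=
  QuotientGroup.lift ψ.graph (MonoidHom.mk' (fun d : ↥ψ.pairs => S₁.act d.1.1) fun c d => S₁.act_mul c.2.1 d.2.1)
    fun _ hd => S₁.act_inner hd.1

theorem proj_mk (d : ↥ψ.pairs) : ψ.proj (QuotientGroup.mk d) = S₁.act d.1.1 := rfl

/-- The central involution of the extension. -/
def eps : ψ.Ext :=
  QuotientGroup.mk ⟨(1, z₂), by simp, rfl, fun a ha => by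
    show ψ.f (1 * a * 1⁻¹) = z₂ * ψ.f a * z₂⁻¹
    rw [one_mul, inv_one, mul_one, ← S₂.comm (ψ.mem a ha), mul_inv_cancel_right]⟩

theorem eps_ne : ψ.eps ≠ 1 := fun h => by
  obtain ⟨-, h2⟩ := (QuotientGroup.eq_one_iff _).1 h
  exact S₂.zne (h2.trans ψ.map_one)

theorem eps_central (x : ψ.Ext) : ψ.eps * x = x * ψ.eps := by
  obtain ⟨d, rfl⟩ := QuotientGroup.mk_surjective x
  exact congrArg QuotientGroup.mk (Subtype.ext (Prod.ext (by simp) d.2.2.1.symm))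

theorem proj_eps : ψ.proj ψ.eps = 1 := S₁.act_one

theorem proj_ker {x : ψ.Ext} (h : ψ.proj x = 1) : x = 1 ∨ x = ψ.eps := by
  obtain ⟨d, rfl⟩ := QuotientGroup.mk_surjective x
  rw [proj_mk] at h
  have hq := S₁.act_ker _ d.2.1 h
  have hq' := S₂.act_ker _ d.2.2.1 ((ψ.act_eq d.2).trans h)
  set n : ↥ψ.pairs := ⟨(d.1.1, ψ.f d.1.1), ψ.graph_mem hq⟩
  have hn : (QuotientGroup.mk n : ψ.Ext) = 1 := (QuotientGroup.eq_one_iff _).2 ⟨hq, rfl⟩
  have hm := mul_mem (inv_mem (ψ.mem _ hq)) hq'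
  have hc : ∀ b ∈ oc z₂, b * ((ψ.f d.1.1)⁻¹ * d.1.2) = (ψ.f d.1.1)⁻¹ * d.1.2 * b := by
    intro b hb
    obtain ⟨a, ha, rfl⟩ := ψ.surj hb
    have e := ((ψ.graph_mem hq).2.2 a ha).symm.trans (d.2.2.2 a ha)
    calc ψ.f a * ((ψ.f d.1.1)⁻¹ * d.1.2)
        = (ψ.f d.1.1)⁻¹ * (ψ.f d.1.1 * ψ.f a * (ψ.f d.1.1)⁻¹) * d.1.2 := by group
      _ = (ψ.f d.1.1)⁻¹ * (d.1.2 * ψ.f a * d.1.2⁻¹) * d.1.2 := by rw [e]
      _ = (ψ.f d.1.1)⁻¹ * d.1.2 * ψ.f a := by group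
  have hd : (QuotientGroup.mk d : ψ.Ext) = QuotientGroup.mk (n⁻¹ * d) := by
    rw [QuotientGroup.mk_mul, QuotientGroup.mk_inv, hn, inv_one, one_mul]
  rw [hd]
  rcases S₂.sett.center_cases hm hc with e | e
  · exact Or.inl (congrArg QuotientGroup.mk (Subtype.ext (Prod.ext (inv_mul_cancel _) e)))
  · exact Or.inr (congrArg QuotientGroup.mk (Subtype.ext (Prod.ext (inv_mul_cancel _) e)))

/-- A complement of the centre of the extension yields an isomorphism of the centralisers. -/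
theorem exists_iso (T : Subgroup ψ.Ext) (hεT : ψ.eps ∉ T)
    (hT : ∀ x, x ∈ T ∨ ψ.eps * x ∈ T)
    (h12 : ∀ c, c * z₁ = z₁ * c → ∃ d, d * z₂ = z₂ * d ∧ S₂.act d = S₁.act c)
    (h21 : ∀ d, d * z₂ = z₂ * d → ∃ c, c * z₁ = z₁ * c ∧ S₁.act c = S₂.act d) :
    ∃ g : ↥(Subgroup.centralizer ({z₁} : Set G₁)) →* G₂, Function.Injective g ∧
      g.range = Subgroup.centralizer ({z₂} : Set G₂) ∧
      (∀ (h : z₁ ∈ Subgroup.centralizer ({z₁} : Set G₁)), g ⟨z₁, h⟩ = z₂) ∧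
      ∀ c : ↥(Subgroup.centralizer ({z₁} : Set G₁)), S₂.act (g c) = S₁.act (c : G₁) := by
  set T' : Subgroup ↥ψ.pairs := T.comap (QuotientGroup.mk' ψ.graph)
  have hgraph : ∀ (q : G₁) (hq : q ∈ oc z₁), (⟨(q, ψ.f q), ψ.graph_mem hq⟩ : ↥ψ.pairs) ∈ T' :=
    fun q hq => by
      show (QuotientGroup.mk (⟨(q, ψ.f q), ψ.graph_mem hq⟩ : ↥ψ.pairs) : ψ.Ext) ∈ T
      rw [(QuotientGroup.eq_one_iff (N := ψ.graph) _).2 ⟨hq, rfl⟩]
      exact one_mem T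
  have hsmall : ∀ d ∈ T', S₁.act d.1.1 = 1 → d.1.2 = ψ.f d.1.1 ∧ d.1.1 ∈ oc z₁ := by
    intro d hd h
    rcases ψ.proj_ker (x := QuotientGroup.mk d) h with e | e
    · obtain ⟨h1, h2⟩ := (QuotientGroup.eq_one_iff _).1 e
      exact ⟨h2, h1⟩
    · exact absurd (e ▸ (show (QuotientGroup.mk d : ψ.Ext) ∈ T from hd)) hεT
  have hex : ∀ c, c * z₁ = z₁ * c → ∃ d ∈ T', S₁.act d.1.1 = S₁.act c := by
    intro c hc
    obtain ⟨e, he, hee⟩ := h12 c hc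
    obtain ⟨q, -, hq⟩ := ψ.pairs_surj hc he hee.symm
    set d : ↥ψ.pairs := ⟨(c, q * e), hq⟩
    rcases hT (QuotientGroup.mk d) with h | h
    · exact ⟨d, h, rfl⟩
    · obtain ⟨d', hd'⟩ := QuotientGroup.mk_surjective (ψ.eps * QuotientGroup.mk d)
      refine ⟨d', show (QuotientGroup.mk d' : ψ.Ext) ∈ T from hd' ▸ h, ?_⟩
      rw [← ψ.proj_mk d', hd', _root_.map_mul ψ.proj, ψ.proj_eps, one_mul, ψ.proj_mk]
  let p : ↥T' →* ↥(Subgroup.centralizer ({z₁} : Set G₁)) :=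
    MonoidHom.mk' (fun d => ⟨d.1.1.1, Subgroup.mem_centralizer_singleton_iff.2 d.1.2.1⟩) fun _ _ => rfl
  let r : ↥T' →* G₂ := MonoidHom.mk' (fun d => d.1.1.2) fun _ _ => rfl
  have hp : Function.Bijective p := by
    refine ⟨(injective_iff_map_eq_one p).2 fun d hd => ?_, fun c => ?_⟩
    · have h1 : d.1.1.1 = 1 := congrArg Subtype.val hd
      obtain ⟨h2, -⟩ := hsmall d.1 d.2 (by rw [h1, S₁.act_one])
      rw [h1, ψ.map_one] at h2
      exact Subtype.ext (Subtype.ext (Prod.ext h1 h2))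
    · have hc := Subgroup.mem_centralizer_singleton_iff.1 c.2
      obtain ⟨d, hd, hda⟩ := hex _ hc
      have hq : d.1.1⁻¹ * c.1 ∈ oc z₁ := S₁.act_ker _ (Commute.mul_left (Commute.inv_left d.2.1) hc).eq
        (by rw [S₁.act_mul (Commute.inv_left d.2.1).eq hc, S₁.act_inv d.2.1, hda, inv_mul_cancel])
      exact ⟨⟨d * ⟨_, ψ.graph_mem hq⟩, mul_mem hd (hgraph _ hq)⟩,
        Subtype.ext (mul_inv_cancel_left _ _)⟩
  have hrinj : Function.Injective r := (injective_iff_map_eq_one r).2 fun d hd => by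
    have h1 : d.1.1.2 = 1 := hd
    obtain ⟨h2, h3⟩ := hsmall d.1 d.2 (by rw [← ψ.act_eq d.1.2, h1, S₂.act_one])
    rw [h1] at h2
    exact Subtype.ext (Subtype.ext (Prod.ext (ψ.eq_one h3 h2.symm) h1))
  refine ⟨r.comp (MulEquiv.ofBijective p hp).symm.toMonoidHom,
    hrinj.comp (MulEquiv.ofBijective p hp).symm.injective, ?_, fun h => ?_, fun c => ?_⟩
  · rw [MonoidHom.range_comp, MonoidHom.range_eq_top.2 (MulEquiv.surjective _), ← MonoidHom.range_eq_map]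
    refine le_antisymm (fun _ ⟨d, hd⟩ => hd ▸ Subgroup.mem_centralizer_singleton_iff.2 d.1.2.2.1)
      fun e he => ?_
    have hez := Subgroup.mem_centralizer_singleton_iff.1 he
    obtain ⟨c, hc, hce⟩ := h21 e hez
    obtain ⟨d, hd, hda⟩ := hex c hc
    have hq : d.1.2⁻¹ * e ∈ oc z₂ := S₂.act_ker _ (Commute.mul_left (Commute.inv_left d.2.2.1) hez).eq
      (by rw [S₂.act_mul (Commute.inv_left d.2.2.1).eq hez, S₂.act_inv d.2.2.1, ψ.act_eq d.2, hda, hce,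
        inv_mul_cancel])
    obtain ⟨a, ha, hae⟩ := ψ.surj hq
    refine ⟨⟨d * ⟨_, ψ.graph_mem ha⟩, mul_mem hd (hgraph _ ha)⟩, ?_⟩
    show d.1.2 * ψ.f a = e
    rw [hae, mul_inv_cancel_left]
  · show r ((MulEquiv.ofBijective p hp).symm ⟨z₁, h⟩) = z₂
    rw [show (MulEquiv.ofBijective p hp).symm ⟨z₁, h⟩ = ⟨_, hgraph z₁ S₁.zmem⟩ from
      (MulEquiv.symm_apply_eq _).2 (Subtype.ext rfl)]
    exact ψ.map_z
  · show S₂.act ((MulEquiv.ofBijective p hp).symm c).1.1.2 = _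
    rw [ψ.act_eq ((MulEquiv.ofBijective p hp).symm c).1.2]
    exact congrArg (fun x : ↥(Subgroup.centralizer ({z₁} : Set G₁)) => S₁.act (x : G₁))
      ((MulEquiv.ofBijective p hp).apply_symm_apply c)

end Match

end Cfsg.Agent.CoTwoUniq.Cent
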