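import Cfsg.Agent.SympMult.SpSix

/-!
Kernel checks on the codes of the transvections of `Sp6(2)`.
-/

set_option autoImplicit false
set_option maxRecDepth 100000

open Cfsg.Agent.Compute Cfsg.Agent.StemCert
open Cfsg.Agent.SympMult.SpSix (bB tvImg tvApp tvWords)

namespace Cfsg.Agent.CoTwoUniq.Cent

/-- A candidate fixing the codes below eight, given by the shifts of three vectors. -/
noncomputable def uf (i j k x : ℕ) : ℕ :=
  Nat.xor x (Nat.xor (cond (x.testBit 3) i 0) (Nat.xor (cond (x.testBit 4) j 0) (cond (x.testBit 5) k 0)))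

/-- Words of conjugation refuting the bound three. -/
def refuters : List (List ℕ) := [[43, 55, 20], [15, 61, 21], [44, 11, 28]]

/-- A word refutes the bound on the orders of products. -/
noncomputable def refutes (i j k : ℕ) (w : List ℕ) : Bool :=
  let p : ℕ → ℕ := fun x => uf i j k (tvApp w (uf i j k (tvApp w.reverse x)))
  !(allBelow 64 fun x => Nat.beq (p (p x)) x) && !(allBelow 64 fun x => Nat.beq (p (p (p x))) x)

theorem words_ok : allBelow 6 (fun s => allB (fun v => Nat.blt v 64) (tvWords.getD s [])) = true := by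
  decide +kernel

theorem bB_check : allBelow 64 (fun a => allBelow 64 fun x => allBelow 64 fun y =>
    bB (tvImg a x) (tvImg a y) == bB x y) = true := by decide +kernel

theorem tv_inj_check : allBelow 64 (fun a => allBelow 64 fun b => Nat.beq a b ||
    !(allBelow 64 fun x => Nat.beq (tvImg a x) (tvImg b x))) = true := by decide +kernel

theorem trans_check : (allBelow 63 fun p => (List.range 64).any fun c => (List.range 64).any fun d =>
    Nat.beq (tvImg c (tvImg d (Nat.add p 1))) 1) = true := by decide +kernel

theorem move_check : (allBelow 63 fun p => (List.range 64).any fun c => (List.range 64).any fun d =>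
    Nat.beq (tvImg c (tvImg d (Nat.add p 1))) 2) = true := by decide +kernel

theorem fix_check : (allBelow 63 fun p => bB (Nat.add p 1) 2 || Nat.beq (Nat.add p 1) 2 ||
    (List.range 64).any fun c => !(bB c 2) && (List.range 64).any fun d => !(bB d 2) &&
      Nat.beq (tvImg c (tvImg d (Nat.add p 1))) 3 && Nat.beq (tvImg c (tvImg d 2)) 2) = true := by
  decide +kernel

theorem three_check : (allBelow 64 fun b =>
    (allBelow 64 fun x => Nat.beq (tvApp [1, b, 1, b] x) x) ||
      (allBelow 64 fun x => Nat.beq (tvApp [1, b, 1, b, 1, b] x) x)) = true := by decide +kernel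

theorem u_check : (allBelow 8 fun i => allBelow 8 fun j => allBelow 8 fun k =>
    !(bB (uf i j k 8) (uf i j k 16) == bB 8 16) || !(bB (uf i j k 8) (uf i j k 32) == bB 8 32) ||
      !(bB (uf i j k 16) (uf i j k 32) == bB 16 32) ||
    (allBelow 64 fun x => Nat.beq (uf i j k x) x) ||
    ((List.range 7).any fun p => allBelow 64 fun x => Nat.beq (uf i j k x) (tvImg (Nat.add p 1) x)) ||
    refuters.any (refutes i j k)) = true := by decide +kernel

theorem perp_check : (allBelow 64 fun y => bB y 1 || bB y 2 || bB y 4 || Nat.blt y 8) = true := by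
  decide +kernel

theorem bits_check : (allBelow 64 fun x => Nat.beq x
    ((cond (x.testBit 0) 1 0 ^^^ cond (x.testBit 1) 2 0) ^^^ (cond (x.testBit 2) 4 0 ^^^
      cond (x.testBit 3) 8 0) ^^^ (cond (x.testBit 4) 16 0 ^^^ cond (x.testBit 5) 32 0))) = true := by
  decide +kernel

theorem form_check : (allBelow 8 fun i => allBelow 8 fun j => allBelow 8 fun k => allBelow 64 fun x =>
    Nat.beq ((cond (x.testBit 0) 1 0 ^^^ cond (x.testBit 1) 2 0) ^^^ (cond (x.testBit 2) 4 0 ^^^
      cond (x.testBit 3) (8 ^^^ i) 0) ^^^ (cond (x.testBit 4) (16 ^^^ j) 0 ^^^ cond (x.testBit 5) (32 ^^^ k) 0))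
      (uf i j k x)) = true := by decide +kernel

theorem uf_sq : (allBelow 8 fun i => allBelow 8 fun j => allBelow 8 fun k => allBelow 64 fun x =>
    Nat.beq (uf i j k (uf i j k x)) x) = true := by decide +kernel

end Cfsg.Agent.CoTwoUniq.Cent
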