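import Cfsg.Agent.Co3Rec.Proj
import Cfsg.Agent.PSUMult.SixTwo.Perfect

/-!
A central extension of `Sp6(2)` by a group of order two splits if an element whose lifts in the double
cover are no involutions has an involution above it.
-/

set_option autoImplicit false
set_option maxHeartbeats 800000

open Cfsg.Agent.Co3Rec

namespace Cfsg.Agent.CoTwoUniq.Cent

universe u

/-- The cover maps over `Sp6(2)` to every central extension. -/
theorem exists_lift_small {E : Type} [Group E] [Finite E] (ρ : E →* Sp) (hs : Function.Surjective ρ)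
    (hz : ρ.ker ≤ Subgroup.center E) : ∃ f : C0 →* E, ∀ x, ρ (f x) = σ x := by
  classical
  let Γ : Subgroup (↥C0 × E) :=
    { carrier := {p | σ p.1 = ρ p.2}
      one_mem' := by simp
      mul_mem' := fun {a b} ha hb => by
        simp only [Set.mem_setOf_eq, Prod.fst_mul, Prod.snd_mul, map_mul] at ha hb ⊢
        rw [ha, hb]
      inv_mem' := fun {a} ha => by
        simp only [Set.mem_setOf_eq, Prod.fst_inv, Prod.snd_inv, map_inv] at ha ⊢
        rw [ha] }
  let pr₁ : ↥Γ →* ↥C0 := (MonoidHom.fst _ _).comp Γ.subtype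
  let τ : ↥Γ →* Sp := σ.comp pr₁
  have hp1 : Function.Surjective pr₁ := fun a => by
    obtain ⟨b, hb⟩ := hs (σ a)
    exact ⟨⟨(a, b), hb.symm⟩, rfl⟩
  have hτs : Function.Surjective τ := σ_surjective.comp hp1
  have hτz : τ.ker ≤ Subgroup.center ↥Γ := fun g hg => by
    have h1 : σ g.1.1 = 1 := hg
    have h2 : ρ g.1.2 = 1 := g.2.symm.trans h1
    refine Subgroup.mem_center_iff.mpr fun x => Subtype.ext (Prod.ext ?_ ?_)
    · exact Subgroup.mem_center_iff.mp (σ_ker_center h1) _
    · exact Subgroup.mem_center_iff.mp (hz h2) _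
  have hSp : commutator Sp = ⊤ := perfect_Sp_of σ σ_surjective C0_perfect
  set D := commutator ↥Γ
  let π : ↥D →* Sp := τ.comp D.subtype
  have hmap : D.map pr₁ = ⊤ := by
    rw [show D = ⁅(⊤ : Subgroup ↥Γ), ⊤⁆ from _root_.commutator_def _, Subgroup.map_commutator,
      Subgroup.map_top_of_surjective pr₁ hp1, ← _root_.commutator_def, C0_perfect]
  let f₁ : ↥D →* ↥C0 := pr₁.comp D.subtype
  have hf₁ : Function.Surjective f₁ := fun a => by
    obtain ⟨x, hx, e⟩ := hmap.ge (Subgroup.mem_top a)
    exact ⟨⟨x, hx⟩, e⟩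
  have hπs : Function.Surjective π := σ_surjective.comp hf₁
  have hstem : Cfsg.IsStemExtension π :=
    ⟨hπs, fun d hd => Subgroup.mem_center_iff.mpr fun x =>
      Subtype.ext (Subgroup.mem_center_iff.mp (hτz hd) x.1),
      by rw [PSUMult.SixTwo.commutator_perfect τ hτs hSp hτz]; exact le_top⟩
  have hcard : Nat.card ↥D ≤ Nat.card ↥C0 := by
    rw [← Subgroup.card_mul_index π.ker, Subgroup.index_ker, MonoidHom.range_eq_top.mpr hπs,
      Subgroup.card_top, card_Sp, card_C0]
    have := card_stem_ker_le π hstem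
    omega
  have hb : Function.Bijective f₁ := (Nat.bijective_iff_surjective_and_card f₁).2
    ⟨hf₁, le_antisymm hcard (Nat.card_le_card_of_surjective f₁ hf₁)⟩
  refine ⟨((MonoidHom.snd _ _).comp (Γ.subtype.comp D.subtype)).comp (MulEquiv.ofBijective f₁ hb).symm.toMonoidHom,
    fun x => ?_⟩
  set d := (MulEquiv.ofBijective f₁ hb).symm x
  show ρ d.1.1.2 = σ x
  rw [← d.1.2]
  exact congrArg σ ((MulEquiv.ofBijective f₁ hb).apply_symm_apply x)

/-- The cover maps over `Sp6(2)` to every central extension, in any universe. -/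
theorem exists_lift {E : Type u} [Group E] [Finite E] (ρ : E →* Sp) (hs : Function.Surjective ρ)
    (hz : ρ.ker ≤ Subgroup.center E) : ∃ f : C0 →* E, ∀ x, ρ (f x) = σ x := by
  let ec : Carrier (Nat.card E) ≃ E := (Finite.equivFin E).symm
  letI grp : Group (Carrier (Nat.card E)) := ec.group
  let c : Carrier (Nat.card E) ≃* E := ec.mulEquiv
  obtain ⟨f, hf⟩ := exists_lift_small (ρ.comp c.toMonoidHom) (hs.comp c.surjective) fun x hx =>
    Subgroup.mem_center_iff.mpr fun y => c.injective (by
      rw [map_mul, map_mul]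
      exact Subgroup.mem_center_iff.mp (hz (show c x ∈ ρ.ker from hx)) (c y))
  exact ⟨c.toMonoidHom.comp f, hf⟩

/-- The splitting criterion. -/
theorem split_of_involution {E : Type u} [Group E] [Finite E] (ρ : E →* Sp) (hs : Function.Surjective ρ)
    (hz : ρ.ker ≤ Subgroup.center E) (hk : Nat.card ↥ρ.ker = 2) {y : E} (hy : y * y = 1)
    (hA : ∀ x : C0, x * x = 1 → σ x ≠ ρ y) : ∃ T : Subgroup E, Subgroup.IsComplement' ρ.ker T := by
  obtain ⟨f, hf⟩ := exists_lift ρ hs hz
  have hcE : Nat.card E = 2903040 := by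
    rw [← Subgroup.card_mul_index ρ.ker, Subgroup.index_ker, MonoidHom.range_eq_top.mpr hs,
      Subgroup.card_top, card_Sp, hk]
  refine ⟨f.range, Subgroup.isComplement'_of_card_mul_and_disjoint ?_ ?_⟩
  all_goals
    have hσρ : f.ker ≤ σ.ker := fun x hx => by
      rw [MonoidHom.mem_ker, ← hf, MonoidHom.mem_ker.1 hx, map_one]
    have hne : f.ker ≠ ⊥ := fun h => by
      have hinj := (MonoidHom.ker_eq_bot_iff f).1 h
      obtain ⟨x, hx⟩ := ((Nat.bijective_iff_injective_and_card f).2
        ⟨hinj, by rw [card_C0, hcE]⟩).2 y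
      exact hA x (hinj (by rw [map_mul, hx, hy, map_one])) (by rw [← hf, hx])
    have hker : f.ker = σ.ker := by
      refine Subgroup.eq_of_le_of_card_ge hσρ ?_
      have h1 : Nat.card ↥f.ker ∣ 2 := σ_ker_card ▸ Subgroup.card_dvd_of_le hσρ
      rcases (Nat.dvd_prime Nat.prime_two).1 h1 with h2 | h2
      · exact absurd (Subgroup.card_eq_one.1 h2) hne
      · rw [σ_ker_card, h2]
  · have h := f.ker.card_mul_index
    rw [Subgroup.index_ker, hker, σ_ker_card, card_C0] at h
    rw [hk, hcE]
    omega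
  · rw [disjoint_iff, eq_bot_iff]
    rintro _ ⟨h1, x, rfl⟩
    have hx : x ∈ f.ker := by rw [hker, MonoidHom.mem_ker, ← hf]; exact h1
    exact hx

end Cfsg.Agent.CoTwoUniq.Cent
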