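import Cfsg.Agent.CoTwoUniq.Cent.Invol
import Cfsg.Agent.CoTwoUniq.Cent.Lift
import Cfsg.Agent.CoTwoUniq.Cent.ClassChecks

/-!
The transvections of `Sp6(2)` and the products of two commuting ones: both classes are preserved by
all automorphisms, and no involution of the double cover lies above them.
-/

set_option autoImplicit false
set_option maxRecDepth 100000

open Cfsg.Agent.Co3Rec Cfsg.Agent.Compute Cfsg.Agent.StemCert
open Cfsg.Agent.SympMult.SpSix (bB tvImg tvApp tvWords tvec decode bitF)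
open Matrix

namespace Cfsg.Agent.CoTwoUniq.Cent

/-- The transvection with a centre given by its code. -/
noncomputable abbrev tv (a : ℕ) : Sp := tvec (ZMod 2) a

/-- The code of a vector. -/
noncomputable def codeV (v : Fin 3 ⊕ Fin 3 → ZMod 2) : ℕ :=
  if h : v = 0 then 0 else ((SympMult.SpSix.ev card_zmod_two).symm ⟨v, h⟩ : ℕ) + 1

/-- The action on the codes. -/
noncomputable def ap (B : Sp) (x : ℕ) : ℕ := codeV (B.1 *ᵥ decode (ZMod 2) x)

theorem decode_zero : decode (ZMod 2) 0 = 0 := by funext i; rcases i with i | i <;> simp [decode, bitF]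

theorem codeV_spec (v : Fin 3 ⊕ Fin 3 → ZMod 2) : codeV v < 64 ∧ decode (ZMod 2) (codeV v) = v := by
  by_cases h : v = 0
  · rw [codeV, dif_pos h]
    exact ⟨by norm_num, decode_zero.trans h.symm⟩
  · rw [codeV, dif_neg h]
    exact ⟨by omega,
      congrArg Subtype.val ((SympMult.SpSix.ev card_zmod_two).apply_symm_apply ⟨v, h⟩)⟩

theorem ap_lt (B : Sp) (x : ℕ) : ap B x < 64 := (codeV_spec _).1

theorem decode_ap (B : Sp) (x : ℕ) : decode (ZMod 2) (ap B x) = B.1 *ᵥ decode (ZMod 2) x :=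
  (codeV_spec _).2

theorem ap_eq {B : Sp} {x y : ℕ} (hy : y < 64) (h : B.1 *ᵥ decode (ZMod 2) x = decode (ZMod 2) y) :
    ap B x = y :=
  SympMult.SpSix.decode_injOn (ap_lt B x) hy ((decode_ap B x).trans h)

theorem xor_lt {a b : ℕ} (ha : a < 64) (hb : b < 64) : a ^^^ b < 64 :=
  Nat.xor_lt_two_pow (n := 6) ha hb

theorem tvImg_lt {a x : ℕ} (ha : a < 64) (hx : x < 64) : tvImg a x < 64 := by
  refine xor_lt hx ?_
  cases bB x a
  · exact Nat.succ_pos 63
  · exact ha

theorem ap_one {x : ℕ} (hx : x < 64) : ap 1 x = x := ap_eq hx (by rw [Submonoid.coe_one, one_mulVec])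

theorem ap_mul (A B : Sp) (x : ℕ) : ap (A * B) x = ap A (ap B x) :=
  ap_eq (ap_lt _ _) (by rw [decode_ap, decode_ap, Submonoid.coe_mul, ← mulVec_mulVec])

theorem ap_xor (B : Sp) (x y : ℕ) : ap B (x ^^^ y) = ap B x ^^^ ap B y :=
  ap_eq (xor_lt (ap_lt B x) (ap_lt B y)) (by
    rw [SympMult.SpSix.decode_xor card_zmod_two, SympMult.SpSix.decode_xor card_zmod_two, decode_ap,
      decode_ap, mulVec_add])

theorem ap_tv {a x : ℕ} (ha : a < 64) (hx : x < 64) : ap (tv a) x = tvImg a x :=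
  ap_eq (tvImg_lt ha hx) (SympMult.SpSix.tvec_mulVec card_zmod_two a x)

theorem ap_inv_ap (B : Sp) {x : ℕ} (hx : x < 64) : ap B⁻¹ (ap B x) = x := by
  rw [← ap_mul, inv_mul_cancel, ap_one hx]

theorem ap_ι (B : Sp) (p : Fin 63) : ap B ((p : ℕ) + 1) = (ι63 B p : ℕ) + 1 :=
  ap_eq (by omega) (SympMult.SpSix.ι_apply card_zmod_two B p).symm

theorem ap_zero (B : Sp) : ap B 0 = 0 := ap_eq (by norm_num) (by rw [decode_zero, mulVec_zero])

theorem sp_ext {A B : Sp} (h : ∀ x, x < 64 → ap A x = ap B x) : A = B :=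
  SympMult.SpSix.ι_injective card_zmod_two (Equiv.ext fun p => Fin.ext (Nat.succ_injective
    ((ap_ι A p).symm.trans ((h _ (by omega)).trans (ap_ι B p)))))

theorem tv_zero : tv 0 = 1 := sp_ext fun x hx => by
  rw [ap_tv (by norm_num) hx, ap_one hx, tvImg]
  cases bB x 0 <;> exact Nat.xor_zero x

theorem tv_sq {a : ℕ} (ha : a < 64) : tv a * tv a = 1 := sp_ext fun x hx => by
  have h : allBelow 64 (fun a => allBelow 64 fun x => Nat.beq (tvImg a (tvImg a x)) x) = true := by
    decide +kernel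
  rw [ap_mul, ap_tv ha hx, ap_tv ha (tvImg_lt ha hx), ap_one hx]
  exact Nat.eq_of_beq_eq_true (allBelow_eq_true.mp (allBelow_eq_true.mp h a ha) x hx)

/-- The transvections generate. -/
theorem sp_induction {P : Sp → Prop} (h1 : P 1) (hm : ∀ A B, P A → P B → P (A * B))
    (ht : ∀ a, a < 64 → P (tv a)) (B : Sp) : P B := by
  have hB := SympMult.SpSix.g_gen card_zmod_two B
  induction hB using Submonoid.closure_induction with
  | mem x hx =>
    obtain ⟨s, hs, rfl⟩ := hx
    rw [SympMult.SpSix.g, if_pos (show s < 6 from hs)]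
    have hw := allB_spec (allBelow_eq_true.mp words_ok s hs)
    generalize tvWords.getD s [] = l at hw
    induction l with
    | nil => simpa [evalW] using h1
    | cons a l ih =>
      rw [evalW_cons]
      exact hm _ _ (ht a (Nat.blt_eq.mp (hw a List.mem_cons_self)))
        (ih fun b hb => hw b (List.mem_cons_of_mem _ hb))
  | one => exact h1
  | mul A B _ _ hA hB => exact hm _ _ hA hB

theorem bB_ap (B : Sp) : ∀ {x y : ℕ}, x < 64 → y < 64 → bB (ap B x) (ap B y) = bB x y := by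
  refine sp_induction (P := fun B => ∀ {x y : ℕ}, x < 64 → y < 64 → bB (ap B x) (ap B y) = bB x y)
    (fun hx hy => by rw [ap_one hx, ap_one hy]) (fun A B hA hB {x y} hx hy => ?_) (fun a ha {x y} hx hy => ?_) B
  · rw [ap_mul, ap_mul, hA (ap_lt _ _) (ap_lt _ _), hB hx hy]
  · rw [ap_tv ha hx, ap_tv ha hy]
    exact eq_of_beq (allBelow_eq_true.mp (allBelow_eq_true.mp (allBelow_eq_true.mp bB_check a ha) x hx) y hy)

/-- Conjugation moves the centre. -/
theorem conj_tv (B : Sp) {a : ℕ} (ha : a < 64) : B * tv a * B⁻¹ = tv (ap B a) := by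
  refine mul_inv_eq_of_eq_mul (sp_ext fun x hx => ?_)
  rw [ap_mul, ap_mul, ap_tv ha hx, ap_tv (ap_lt _ _) (ap_lt _ _)]
  show ap B (x ^^^ cond (bB x a) a 0) = ap B x ^^^ cond (bB (ap B x) (ap B a)) (ap B a) 0
  rw [bB_ap B hx ha, ap_xor]
  cases bB x a
  · rw [cond_false, cond_false, ap_zero]
  · rfl

theorem tv_inj {a b : ℕ} (ha : a < 64) (hb : b < 64) (h : tv a = tv b) : a = b := by
  have hh := allBelow_eq_true.mp (allBelow_eq_true.mp tv_inj_check a ha) b hb
  have he : allBelow 64 (fun x => Nat.beq (tvImg a x) (tvImg b x)) = true :=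
    allBelow_eq_true.mpr fun x hx => by rw [← ap_tv ha hx, ← ap_tv hb hx, h, Nat.beq_eq]
  rw [he, Bool.not_true, Bool.or_false] at hh
  exact Nat.eq_of_beq_eq_true hh

theorem ap_eq_of_comm {B : Sp} {a : ℕ} (ha : a < 64) (h : B * tv a = tv a * B) : ap B a = a :=
  tv_inj (ap_lt _ _) ha (by rw [← conj_tv B ha, h, mul_inv_cancel_right])

/-- The base transvection. -/
noncomputable def tT : Sp := tv 1

/-- The product of two commuting transvections. -/
noncomputable def cT : Sp := tv 2 * tv 3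

theorem conj_to_tT {a : ℕ} (ha : a < 64) (h0 : a ≠ 0) : ∃ g : Sp, g * tv a * g⁻¹ = tT := by
  have h := allBelow_eq_true.mp trans_check (a - 1) (by omega)
  simp only [List.any_eq_true, List.mem_range, Nat.beq_eq, Nat.add_eq,
    show a - 1 + 1 = a by omega] at h
  obtain ⟨c, hc, d, hd, he⟩ := h
  refine ⟨tv c * tv d, ?_⟩
  rw [conj_tv _ ha, ap_mul, ap_tv hd ha, ap_tv hc (tvImg_lt hd ha), he]
  rfl

theorem conj_to_cT {a b : ℕ} (ha : a < 64) (hb : b < 64) (ha0 : a ≠ 0) (hb0 : b ≠ 0) (hab : a ≠ b)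
    (hB : bB a b = false) : ∃ g : Sp, g * (tv a * tv b) * g⁻¹ = cT := by
  have h := allBelow_eq_true.mp move_check (a - 1) (by omega)
  simp only [List.any_eq_true, List.mem_range, Nat.beq_eq, Nat.add_eq,
    show a - 1 + 1 = a by omega] at h
  obtain ⟨c, hc, d, hd, he⟩ := h
  set g₁ : Sp := tv c * tv d
  have h1 : ap g₁ a = 2 := by rw [ap_mul, ap_tv hd ha, ap_tv hc (tvImg_lt hd ha), he]
  set b' := ap g₁ b
  have hb' : b' ≠ 0 := fun e =>
    hb0 ((ap_inv_ap g₁ hb).symm.trans ((congrArg (ap g₁⁻¹) e).trans (ap_zero _)))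
  have hb2 : b' ≠ 2 := fun e => hab ((ap_inv_ap g₁ ha).symm.trans
    ((congrArg (ap g₁⁻¹) (h1.trans e.symm)).trans (ap_inv_ap g₁ hb)))
  have hB' : bB b' 2 = false := by
    rw [← h1, bB_ap g₁ hb ha]
    have hs : allBelow 64 (fun x => allBelow 64 fun y => bB x y == bB y x) = true := by decide +kernel
    rw [← eq_of_beq (allBelow_eq_true.mp (allBelow_eq_true.mp hs a ha) b hb), hB]
  have hlt : b' < 64 := ap_lt _ _
  have h2 := allBelow_eq_true.mp fix_check (b' - 1) (by omega)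
  simp only [Nat.add_eq, show b' - 1 + 1 = b' by omega, hB', Bool.false_or, Bool.or_eq_true, Nat.beq_eq,
    List.any_eq_true, List.mem_range, Bool.and_eq_true] at h2
  obtain ⟨e, he', -, f, hf, ⟨-, h3⟩, h4⟩ := h2.resolve_left hb2
  refine ⟨tv e * tv f * g₁, ?_⟩
  have key : ∀ (g : Sp) (x y : Sp), g * (x * y) * g⁻¹ = g * x * g⁻¹ * (g * y * g⁻¹) := fun g x y => by
    group
  rw [key, conj_tv _ ha, conj_tv _ hb, ap_mul, ap_mul, ap_mul (tv e * tv f), ap_mul (tv e), h1,
    show ap g₁ b = b' from rfl, ap_tv hf (by norm_num), ap_tv hf hlt, ap_tv he' (tvImg_lt hf (by norm_num)),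
    ap_tv he' (tvImg_lt hf hlt), h3, h4]
  rfl

/-- Any two conjugates multiply to an element of order at most three. -/
def Trans3 (A : Sp) : Prop :=
  ∀ g : Sp, (A * (g * A * g⁻¹)) ^ 2 = 1 ∨ (A * (g * A * g⁻¹)) ^ 3 = 1

theorem ap_word : ∀ (l : List ℕ), (∀ a ∈ l, a < 64) → ∀ x, x < 64 →
    ap (evalW tv l) x = tvApp l x ∧ tvApp l x < 64
  | [], _, x, hx => ⟨by rw [evalW, List.map_nil, List.prod_nil, ap_one hx]; rfl, hx⟩
  | a :: l, h, x, hx => by
    obtain ⟨h1, h2⟩ := ap_word l (fun b hb => h b (List.mem_cons_of_mem _ hb)) x hx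
    refine ⟨?_, tvImg_lt (h a List.mem_cons_self) h2⟩
    rw [evalW_cons, ap_mul, h1, ap_tv (h a List.mem_cons_self) h2]
    rfl

theorem trans3_tT : Trans3 tT := by
  intro g
  rw [tT, conj_tv g (by norm_num : 1 < 64)]
  have hb := ap_lt g 1
  set b := ap g 1
  have h := allBelow_eq_true.mp three_check b hb
  simp only [Bool.or_eq_true, allBelow_eq_true, Nat.beq_eq] at h
  rcases h with h | h
  · left
    refine sp_ext fun x hx => ?_
    rw [show (tv 1 * tv b) ^ 2 = evalW tv [1, b, 1, b] by simp [evalW, pow_two, mul_assoc],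
      (ap_word _ (by simp [hb]) x hx).1, h x hx, ap_one hx]
  · right
    refine sp_ext fun x hx => ?_
    rw [show (tv 1 * tv b) ^ 3 = evalW tv [1, b, 1, b, 1, b] by simp [evalW, pow_succ, mul_assoc],
      (ap_word _ (by simp [hb]) x hx).1, h x hx, ap_one hx]

theorem trans3_conj {A : Sp} (h : Trans3 A) (k : Sp) : Trans3 (k * A * k⁻¹) := fun g => by
  have e : k * A * k⁻¹ * (g * (k * A * k⁻¹) * g⁻¹) =
      k * (A * (k⁻¹ * g * k * A * (k⁻¹ * g * k)⁻¹)) * k⁻¹ := by group
  rw [e, conj_pow, conj_pow, conj_eq_one_iff, conj_eq_one_iff]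
  exact h _

theorem trans3_tv {a : ℕ} (ha : a < 64) (h0 : a ≠ 0) : Trans3 (tv a) := by
  obtain ⟨g, hg⟩ := conj_to_tT ha h0
  rw [show tv a = g⁻¹ * tT * g⁻¹⁻¹ by rw [← hg]; group]
  exact trans3_conj trans3_tT _

/-- An element fixing the codes below eight, in coordinates. -/
theorem fixer_form {A : Sp} (h : ∀ l, l < 8 → ap A l = l) : ∃ i < 8, ∃ j < 8, ∃ k < 8,
    ∀ x, x < 64 → ap A x = uf i j k x := by
  have hd : ∀ x, x < 64 → ap A x ^^^ x < 8 := fun x hx => by
    have hy : ap A x ^^^ x < 64 := xor_lt (ap_lt _ _) hx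
    have e : ∀ l, l < 8 → bB (ap A x ^^^ x) l = false := fun l hl => by
      have h1 := bB_ap A hx (show l < 64 by omega)
      rw [h l hl] at h1
      have hlin : allBelow 64 (fun a => allBelow 64 fun b => allBelow 8 fun l =>
          bB (a ^^^ b) l == (bB a l != bB b l)) = true := by decide +kernel
      rw [eq_of_beq (allBelow_eq_true.mp (allBelow_eq_true.mp (allBelow_eq_true.mp hlin _ (ap_lt A x)) x hx) l hl),
        h1]
      exact bne_self_eq_false _
    have hc := allBelow_eq_true.mp perp_check _ hy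
    rw [e 1 (by norm_num), e 2 (by norm_num), e 4 (by norm_num)] at hc
    simpa [Nat.blt_eq] using hc
  refine ⟨_, hd 8 (by norm_num), _, hd 16 (by norm_num), _, hd 32 (by norm_num), fun x hx => ?_⟩
  have hb : ∀ (b : Bool) (v : ℕ), ap A (cond b v 0) = cond b (ap A v) 0 := fun b v => by
    cases b
    · exact ap_zero A
    · rfl
  have hval : ∀ y, ap A y = y ^^^ (ap A y ^^^ y) := fun y => by
    rw [Nat.xor_comm y, Nat.xor_assoc, Nat.xor_self, Nat.xor_zero]
  conv_lhs => rw [Nat.eq_of_beq_eq_true (allBelow_eq_true.mp bits_check x hx)]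
  simp only [ap_xor, hb, h 1 (by norm_num), h 2 (by norm_num), h 4 (by norm_num)]
  have hc := allBelow_eq_true.mp (allBelow_eq_true.mp (allBelow_eq_true.mp (allBelow_eq_true.mp form_check
    _ (hd 8 (by norm_num))) _ (hd 16 (by norm_num))) _ (hd 32 (by norm_num))) x hx
  rw [← hval 8, ← hval 16, ← hval 32] at hc
  exact Nat.eq_of_beq_eq_true hc

theorem fixer_cases {A : Sp} (h : ∀ l, l < 8 → ap A l = l) (h3 : Trans3 A) (h1 : A ≠ 1) :
    ∃ a, a < 8 ∧ a ≠ 0 ∧ A = tv a := by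
  obtain ⟨i, hi, j, hj, k, hk, hA⟩ := fixer_form h
  have hc := allBelow_eq_true.mp (allBelow_eq_true.mp (allBelow_eq_true.mp u_check i hi) j hj) k hk
  simp only [← hA 8 (by norm_num), ← hA 16 (by norm_num), ← hA 32 (by norm_num),
    bB_ap A (show 8 < 64 by norm_num) (show 16 < 64 by norm_num),
    bB_ap A (show 8 < 64 by norm_num) (show 32 < 64 by norm_num),
    bB_ap A (show 16 < 64 by norm_num) (show 32 < 64 by norm_num),
    Bool.or_eq_true, beq_self_eq_true, Bool.not_true, Bool.false_eq_true, false_or,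
    List.any_eq_true, List.mem_range, allBelow_eq_true, Nat.beq_eq] at hc
  rcases hc with (hc | ⟨p, hp, hc⟩) | ⟨w, hw, hc⟩
  · exact absurd (sp_ext fun x hx => by rw [hA x hx, hc x hx, ap_one hx]) h1
  · exact ⟨p + 1, by omega, by omega, sp_ext fun x hx => by rw [hA x hx, ap_tv (by omega) hx]; exact hc x hx⟩
  exfalso
  have hlt : ∀ a ∈ w, a < 64 := by
    simp only [refuters, List.mem_cons, List.not_mem_nil, or_false] at hw
    rcases hw with rfl | rfl | rfl <;> decide
  set g : Sp := evalW tv w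
  have hgi : g⁻¹ = evalW tv w.reverse := by
    show (evalW tv w)⁻¹ = _
    rw [evalW, evalW, List.prod_inv_reverse, List.map_map, List.map_reverse]
    congr 2
    refine List.map_congr_left fun a ha => ?_
    exact inv_eq_of_mul_eq_one_right (tv_sq (hlt a ha))
  have hr : ∀ a ∈ w.reverse, a < 64 := fun a ha => hlt a (List.mem_reverse.mp ha)
  set p : ℕ → ℕ := fun x => uf i j k (tvApp w (uf i j k (tvApp w.reverse x)))
  have hp : ∀ x, x < 64 → ap (A * (g * A * g⁻¹)) x = p x ∧ p x < 64 := fun x hx => by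
    obtain ⟨e1, l1⟩ := ap_word _ hr x hx
    have l2 : uf i j k (tvApp w.reverse x) < 64 := (hA _ l1).symm.trans_lt (ap_lt _ _)
    obtain ⟨e3, l3⟩ := ap_word _ hlt _ l2
    refine ⟨?_, (hA _ l3).symm.trans_lt (ap_lt _ _)⟩
    rw [ap_mul, ap_mul, ap_mul, hgi, e1, hA _ l1, e3, hA _ l3]
  simp only [refutes, Bool.and_eq_true, Bool.not_eq_true'] at hc
  obtain ⟨c2, c3⟩ := hc
  rcases h3 g with e | e
  · refine Bool.false_ne_true (c2.symm.trans (allBelow_eq_true.mpr fun x hx => ?_))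
    obtain ⟨e1, l1⟩ := hp x hx
    rw [Nat.beq_eq]
    show p (p x) = x
    rw [← (hp _ l1).1, ← e1, ← ap_mul, ← pow_two, e, ap_one hx]
  · refine Bool.false_ne_true (c3.symm.trans (allBelow_eq_true.mpr fun x hx => ?_))
    obtain ⟨e1, l1⟩ := hp x hx
    obtain ⟨e2, l2⟩ := hp _ l1
    rw [Nat.beq_eq]
    show p (p (p x)) = x
    rw [← (hp _ l2).1, ← e2, ← e1, ← ap_mul, ← ap_mul, ← pow_three', e, ap_one hx]

/-- The pointwise stabiliser of the codes below eight. -/
def fixer : Subgroup Sp where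
  carrier := {A | ∀ l, l < 8 → ap A l = l}
  one_mem' := fun l hl => ap_one (by omega)
  mul_mem' := fun {A B} hA hB l hl => by rw [ap_mul, hB l hl, hA l hl]
  inv_mem' := fun {A} hA l hl => by
    conv_lhs => rw [← hA l hl]
    exact ap_inv_ap A (by omega)

theorem isPGroup_fixer : IsPGroup 2 ↥fixer := fun A => ⟨1, by
  obtain ⟨i, hi, j, hj, k, hk, hA⟩ := fixer_form A.2
  refine Subtype.ext (sp_ext fun x hx => ?_)
  rw [pow_one, pow_two, Subgroup.coe_mul, ap_mul, hA x hx, hA _ (hA x hx ▸ ap_lt _ _), Subgroup.coe_one,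
    ap_one hx]
  exact Nat.eq_of_beq_eq_true (allBelow_eq_true.mp (allBelow_eq_true.mp (allBelow_eq_true.mp
    (allBelow_eq_true.mp uf_sq i hi) j hj) k hk) x hx)⟩

theorem fixer_tv : ∀ l, l < 8 → tv l ∈ fixer := fun l hl m hm => by
  have h : allBelow 8 (fun l => allBelow 8 fun m => Nat.beq (tvImg l m) m) = true := by decide +kernel
  rw [ap_tv (by omega) (by omega)]
  exact Nat.eq_of_beq_eq_true (allBelow_eq_true.mp (allBelow_eq_true.mp h l hl) m hm)

/-- Automorphisms map transvections to transvections. -/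
theorem aut_tv (α : Sp ≃* Sp) {a : ℕ} (ha : a < 64) (h0 : a ≠ 0) :
    ∃ b, b < 64 ∧ b ≠ 0 ∧ α (tv a) = tv b := by
  set U : Subgroup Sp := fixer.map α.symm.toMonoidHom
  have hU : IsPGroup 2 ↥U := isPGroup_fixer.map _
  letI : MulAction ↥U (Fin 63) := MulAction.compHom (Fin 63) (ι63.comp U.subtype)
  obtain ⟨p, hp⟩ := hU.nonempty_fixed_point_of_prime_not_dvd_card (Fin 63) (by simp)
  have hq : (p : ℕ) + 1 < 64 := by omega
  have hfix : ∀ l, l < 8 → ap (α (tv ((p : ℕ) + 1))) l = l := fun l hl => by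
    refine ap_eq_of_comm (by omega) ?_
    have hu : α.symm (tv l) ∈ U := ⟨tv l, fixer_tv l hl, rfl⟩
    have h1 : ι63 (α.symm (tv l)) p = p := hp ⟨_, hu⟩
    have h2 : α.symm (tv l) * tv ((p : ℕ) + 1) * (α.symm (tv l))⁻¹ = tv ((p : ℕ) + 1) := by
      rw [conj_tv _ hq, ap_ι, h1]
    have h3 := congrArg α (mul_inv_eq_iff_eq_mul.1 h2)
    rw [map_mul, map_mul, MulEquiv.apply_symm_apply] at h3
    exact h3.symm
  have h3 : Trans3 (α (tv ((p : ℕ) + 1))) := fun g => by
    obtain ⟨g, rfl⟩ := α.surjective g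
    rw [← map_inv, ← map_mul, ← map_mul, ← map_mul, ← map_pow, ← map_pow, ← map_one α,
      α.apply_eq_iff_eq, α.apply_eq_iff_eq]
    exact trans3_tv hq (by omega) g
  have hne : α (tv ((p : ℕ) + 1)) ≠ 1 := fun e => by
    have := tv_inj hq (by norm_num : 0 < 64) ((α.map_eq_one_iff.1 e).trans tv_zero.symm)
    omega
  obtain ⟨b, hb, hb0, e⟩ := fixer_cases hfix h3 hne
  obtain ⟨g₁, hg₁⟩ := conj_to_tT ha h0
  obtain ⟨g₂, hg₂⟩ := conj_to_tT hq (by omega)
  have hconj : tv a = g₁⁻¹ * g₂ * tv ((p : ℕ) + 1) * (g₁⁻¹ * g₂)⁻¹ := by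
    rw [show g₁⁻¹ * g₂ * tv ((p : ℕ) + 1) * (g₁⁻¹ * g₂)⁻¹ = g₁⁻¹ * (g₂ * tv ((p : ℕ) + 1) * g₂⁻¹) * g₁ by
      group, hg₂, ← hg₁]
    group
  refine ⟨ap (α (g₁⁻¹ * g₂)) b, ap_lt _ _, fun hz => ?_, ?_⟩
  · have := congrArg (ap (α (g₁⁻¹ * g₂))⁻¹) hz
    rw [ap_inv_ap _ (by omega), ap_zero] at this
    exact hb0 this
  · rw [← conj_tv _ (by omega : b < 64), ← e, ← map_inv, ← map_mul, ← map_mul, ← hconj]

theorem aut_tT (α : Sp ≃* Sp) : ∃ g : Sp, g * α tT * g⁻¹ = tT := by
  obtain ⟨b, hb, hb0, e⟩ := aut_tv α (a := 1) (by norm_num) (by norm_num)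
  rw [tT, e]
  exact conj_to_tT hb hb0

theorem tv_two_three : tv 2 * tv 3 = tv 3 * tv 2 := by
  have h := conj_tv (tv 2) (show 3 < 64 by norm_num)
  rw [ap_tv (show 2 < 64 by norm_num) (show 3 < 64 by norm_num), show tvImg 2 3 = 3 by decide +kernel] at h
  exact mul_inv_eq_iff_eq_mul.1 h

theorem aut_cT (α : Sp ≃* Sp) : ∃ g : Sp, g * α cT * g⁻¹ = cT := by
  obtain ⟨a, ha, ha0, ea⟩ := aut_tv α (a := 2) (by norm_num) (by norm_num)
  obtain ⟨b, hb, hb0, eb⟩ := aut_tv α (a := 3) (by norm_num) (by norm_num)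
  have hne : a ≠ b := fun e => by
    have := tv_inj (a := 2) (b := 3) (by norm_num) (by norm_num) (α.injective (by rw [ea, eb, e]))
    omega
  have hcomm : tv a * tv b = tv b * tv a := by
    rw [← ea, ← eb, ← map_mul, ← map_mul, tv_two_three]
  have hB : bB a b = false := by
    have h := ap_eq_of_comm ha hcomm.symm
    rw [ap_tv hb ha, tvImg] at h
    cases hab : bB a b
    · rfl
    · rw [hab] at h
      have : b = 0 := by
        have h2 := congrArg (a ^^^ ·) h
        change a ^^^ (a ^^^ b) = a ^^^ a at h2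
        rwa [← Nat.xor_assoc, Nat.xor_self, Nat.zero_xor] at h2
      exact absurd this hb0
  rw [cT, map_mul, ea, eb]
  exact conj_to_cT ha hb ha0 hb0 hne hB

/-- No involution of the double cover lies above the element. -/
def NoInv (A : Sp) : Prop := ∀ x : C0, x * x = 1 → σ x ≠ A

theorem not_liftable {A : Sp} (L : List ℕ) (hlen : L.length = 15) (hnd : L.Nodup)
    (hL : ∀ x ∈ L, x ≠ 0 ∧ x < 64 ∧ ap A x = x) {w : ℕ} (hw : w < 64) (hw0 : w ≠ 0)
    (hwA : sympB w (ap A w) = true) : ¬ Liftable (ι63 A) := by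
  rintro (h | h)
  · have h' := h ⟨w - 1, by omega⟩
    have e := ap_ι A ⟨w - 1, by omega⟩
    simp only [show w - 1 + 1 = w by omega] at e h'
    rw [← e, hwA] at h'
    exact Bool.noConfusion h'
  · refine absurd h (not_lt.2 ?_)
    let f : Fin 15 → {p : Fin 63 // ι63 A p = p} := fun n =>
      have hn : L.get (n.cast hlen.symm) ≠ 0 ∧ L.get (n.cast hlen.symm) < 64 ∧
        ap A (L.get (n.cast hlen.symm)) = L.get (n.cast hlen.symm) := hL _ (List.get_mem _ _)
      ⟨⟨L.get (n.cast hlen.symm) - 1, by omega⟩, Fin.ext (by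
        have e := ap_ι A ⟨L.get (n.cast hlen.symm) - 1, by omega⟩
        simp only [show L.get (n.cast hlen.symm) - 1 + 1 = L.get (n.cast hlen.symm) by omega, hn.2.2] at e
        show _ = L.get (n.cast hlen.symm) - 1
        omega)⟩
    have hf : Function.Injective f := fun m n e => by
      have e' : L.get (m.cast hlen.symm) - 1 = L.get (n.cast hlen.symm) - 1 :=
        congrArg (fun p : {p : Fin 63 // ι63 A p = p} => (p.1 : ℕ)) e
      have h1 := (hL _ (List.get_mem L (m.cast hlen.symm))).1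
      have h2 := (hL _ (List.get_mem L (n.cast hlen.symm))).1
      exact Fin.cast_injective _ ((List.nodup_iff_injective_get.1 hnd) (by omega))
    simpa using Nat.card_le_card_of_injective f hf

theorem noInv_tT : NoInv tT := fun x hx e => by
  refine not_liftable (A := tT) [1, 2, 3, 4, 5, 6, 7, 16, 17, 18, 19, 20, 21, 22, 23] rfl (by decide)
    ?_ (w := 8) (by norm_num) (by norm_num) ?_ (e ▸ liftable_of_involution x hx)
  · intro y hy
    have hy' : y ≠ 0 ∧ y < 64 ∧ tvImg 1 y = y := by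
      revert y; decide +kernel
    exact ⟨hy'.1, hy'.2.1, by rw [tT, ap_tv (by norm_num) hy'.2.1, hy'.2.2]⟩
  · rw [tT, ap_tv (by norm_num) (by norm_num)]
    decide +kernel

theorem noInv_cT : NoInv cT := fun x hx e => by
  refine not_liftable (A := cT) [1, 2, 3, 4, 5, 6, 7, 32, 33, 34, 35, 36, 37, 38, 39] rfl (by decide)
    ?_ (w := 8) (by norm_num) (by norm_num) ?_ (e ▸ liftable_of_involution x hx)
  · intro y hy
    have hy' : y ≠ 0 ∧ y < 64 ∧ tvImg 2 (tvImg 3 y) = y := by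
      revert y; decide +kernel
    exact ⟨hy'.1, hy'.2.1, by
      rw [cT, ap_mul, ap_tv (by norm_num) hy'.2.1, ap_tv (by norm_num) (tvImg_lt (by norm_num) hy'.2.1), hy'.2.2]⟩
  · rw [cT, ap_mul, ap_tv (show 3 < 64 by norm_num) (show 8 < 64 by norm_num),
      ap_tv (show 2 < 64 by norm_num) (tvImg_lt (show 3 < 64 by norm_num) (show 8 < 64 by norm_num))]
    decide +kernel

end Cfsg.Agent.CoTwoUniq.Cent
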