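import Cfsg.Agent.CoTwoUniq.Defs
import Cfsg.Agent.CoTwoUniq.Basic
import Cfsg.Agent.CoTwoUniq.Cent.Classes

/-!
The centraliser of the marked involution of the model on the sixty-three pairs: sign changes over a
transvection and over a product of two commuting ones.
-/

set_option autoImplicit false

open Cfsg Matrix
open Cfsg.Agent.Co3Rec (Sp ι63)
open Cfsg.Agent.Leech (bitWord signCo0 negOn idx ptOf)
open Cfsg.Agent.SympMult.SpSix (tvImg decode bitF)

namespace Cfsg.Agent.CoTwoUniq.Cent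

open Cfsg.Agent.Leech.CentTwo (CT vecOf spHom vecEquiv pA pB)

theorem vec_decode (j : Fin 63) : vecOf j = decode (ZMod 2) ((j : ℕ) + 1) := by
  funext i
  revert i j
  decide +kernel

/-- The map of the centraliser onto the symplectic group in the pairs. -/
noncomputable def lam : ↥C1 →* Sp :=
  (MonoidHom.ofInjective Leech.CentTwo.spHom_range.2).symm.toMonoidHom.comp
    ((Leech.CentTwo.act.comp S2136.centEquiv.toMonoidHom).codRestrict spHom.range fun x => by
      rw [Leech.CentTwo.spHom_range.1, ← Leech.CentTwo.counts.2.2.1]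
      exact ⟨_, rfl⟩)

theorem lam_spec (x : ↥C1) : spHom (lam x) = Leech.CentTwo.act (S2136.centEquiv x) :=
  congrArg Subtype.val ((MonoidHom.ofInjective Leech.CentTwo.spHom_range.2).apply_symm_apply
    (((Leech.CentTwo.act.comp S2136.centEquiv.toMonoidHom).codRestrict spHom.range fun x => by
      rw [Leech.CentTwo.spHom_range.1, ← Leech.CentTwo.counts.2.2.1]
      exact ⟨_, rfl⟩) x))

theorem lam_surjective : Function.Surjective lam := fun B => by
  have hB : spHom B ∈ Leech.CentTwo.act.range := by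
    rw [Leech.CentTwo.counts.2.2.1, ← Leech.CentTwo.spHom_range.1]
    exact ⟨B, rfl⟩
  obtain ⟨y, hy⟩ := hB
  exact ⟨S2136.centEquiv.symm y, Leech.CentTwo.spHom_range.2
    ((lam_spec _).trans (by rw [MulEquiv.apply_symm_apply, hy]))⟩

theorem lam_ker : lam.ker = pCore 2 ↥C1 := by
  have h1 : (pCore 2 ↥C1).map S2136.centEquiv.toMonoidHom = Leech.CentTwo.act.ker := by
    have := Leech.finite_co0
    exact (Core.map_pCore S2136.centEquiv).trans Leech.CentTwo.pCore_CT
  ext x
  have h2 : x ∈ pCore 2 ↥C1 ↔ S2136.centEquiv x ∈ Leech.CentTwo.act.ker := by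
    rw [← h1]
    exact (Subgroup.mem_map_iff_mem (f := S2136.centEquiv.toMonoidHom) S2136.centEquiv.injective).symm
  rw [h2, MonoidHom.mem_ker, MonoidHom.mem_ker, ← Leech.CentTwo.spHom_range.2.eq_iff, map_one spHom, lam_spec]

theorem spHom_ap (B : Sp) (j : Fin 63) : ((spHom B j : Fin 63) : ℕ) + 1 = ap B ((j : ℕ) + 1) := by
  refine (ap_eq (by omega) ?_).symm
  have h : vecOf (spHom B j) = B.1 *ᵥ vecOf j :=
    congrArg Subtype.val (vecEquiv.apply_symm_apply _)
  rw [vec_decode, vec_decode] at h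
  exact h.symm

/-- A mask over the base transvection. -/
def mT : ℕ := 12496948

/-- A mask over the product of two commuting transvections. -/
def mC : ℕ := 15806496

/-- The point of a code. -/
def ptC (x : ℕ) : Fin 63 := Fin.ofNat 63 (x - 1)

/-- The mask induces the map on the pairs. -/
def MaskActs (m : ℕ) (f : ℕ → ℕ) : Prop :=
  ∀ j : Fin 63, (∀ p, negOn (bitWord m) (pA j : GolayPt → ℤ) p = (pA (ptC (f (j.val + 1))) : GolayPt → ℤ) p) ∨
    ∀ p, negOn (bitWord m) (pA j : GolayPt → ℤ) p = (pB (ptC (f (j.val + 1))) : GolayPt → ℤ) p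

theorem mT_acts : MaskActs mT (tvImg 1) := by unfold MaskActs; decide +kernel

theorem mC_acts : MaskActs mC (fun x => tvImg 2 (tvImg 3 x)) := by unfold MaskActs; decide +kernel

theorem sgn_mem_C1 {n : ℕ} (h : Av n) : sgn n ∈ C1 :=
  Subgroup.mem_centralizer_singleton_iff.2 (by
    show sgn n * S2136.tCo2 = S2136.tCo2 * sgn n
    rw [← sgn_zm]
    exact (sgn_comm h av_zm).eq)

theorem lam_sgn {m : ℕ} (hm : Av m) {B : Sp} {f : ℕ → ℕ} (hB : ∀ x, x < 64 → ap B x = f x)
    (hf : MaskActs m f) : lam ⟨sgn m, sgn_mem_C1 hm⟩ = B := by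
  refine Leech.CentTwo.spHom_range.2 (Equiv.ext fun j => ?_)
  rw [lam_spec]
  refine Leech.CentTwo.actFun_eq _ _ _ ?_
  have hk : ptC (f (j.val + 1)) = spHom B j := by
    refine Fin.ext ?_
    have h := spHom_ap B j
    rw [hB _ (by omega)] at h
    show (f (j.val + 1) - 1) % 63 = _
    have := (spHom B j).2
    omega
  have hv : ∀ p, (((S2136.centEquiv ⟨sgn m, sgn_mem_C1 hm⟩).1 • pA j : leechLattice) : GolayPt → ℤ) p =
      negOn (bitWord m) (pA j : GolayPt → ℤ) p := fun p => by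
    show ((inc (sgn m) • pA j : leechLattice) : GolayPt → ℤ) p = _
    rw [inc_sgn hm, Leech.signCo0_apply]
  rcases hf j with e | e
  · exact Or.inl (Subtype.ext (funext fun p => by rw [hv, e p, hk]))
  · exact Or.inr (Subtype.ext (funext fun p => by rw [hv, e p, hk]))

theorem av_mT : Av mT := by decide +kernel

theorem av_mC : Av mC := by decide +kernel

/-- The sign change over the base transvection. -/
noncomputable def xT : ↥C1 := ⟨sgn mT, sgn_mem_C1 av_mT⟩

/-- The sign change over the product. -/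
noncomputable def xC : ↥C1 := ⟨sgn mC, sgn_mem_C1 av_mC⟩

theorem sq_sgn {m : ℕ} (h : Av m) : (⟨sgn m, sgn_mem_C1 h⟩ : ↥C1) * ⟨sgn m, sgn_mem_C1 h⟩ = 1 :=
  Subtype.ext (sgn_mul_self h)

theorem exists_over_tT : ∃ x : ↥C1, x * x = 1 ∧ lam x = tT :=
  ⟨xT, sq_sgn av_mT, lam_sgn (B := tT) (f := tvImg 1) av_mT
    (fun x hx => ap_tv (show 1 < 64 by norm_num) hx) mT_acts⟩

theorem ap_cT (x : ℕ) (hx : x < 64) : ap cT x = tvImg 2 (tvImg 3 x) := by
  rw [cT, ap_mul, ap_tv (show 3 < 64 by norm_num) hx,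
    ap_tv (show 2 < 64 by norm_num) (tvImg_lt (show 3 < 64 by norm_num) hx)]

theorem exists_over_cT : ∃ x : ↥C1, x * x = 1 ∧ lam x = cT :=
  ⟨xC, sq_sgn av_mC, lam_sgn (B := cT) (f := fun x => tvImg 2 (tvImg 3 x)) av_mC ap_cT mC_acts⟩

end Cfsg.Agent.CoTwoUniq.Cent
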