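import Cfsg.Agent.CoTwoUniq.Cent.SpinChecks
import Cfsg.Agent.CoTwoUniq.Cent.Classes

/-!
The spin image of `Sp6(2)` mapped back onto the symplectic group, and the axes of the images of the
transvections and of the products of two commuting ones.
-/

set_option autoImplicit false

open Cfsg Cfsg.Agent.ThreeTrans.OrthCohom Cfsg.Agent.Classical.Quad QuadraticMap Cfsg.Agent.LargeExtra
  Cfsg.Agent.CoOneType
open Cfsg.Agent.Co3Rec (Sp)
open Cfsg.Agent.Compute Cfsg.Agent.CoTwoType
open Cfsg.Agent.SympMult.SpSix (tvImg)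
open scoped Classical

namespace Cfsg.Agent.CoTwoUniq.Cent

theorem tn_lt {a v : ℕ} (ha : a < 64) (hv : v < 256) : tn a v < 256 := by
  have h := allBelow_eq_true.mp (allBelow_eq_true.mp tn_basic a ha) v hv
  simp only [Bool.and_eq_true, Nat.blt_eq] at h
  exact h.1.1

theorem tn_qn {a v : ℕ} (ha : a < 64) (hv : v < 256) : qn (tn a v) = qn v := by
  have h := allBelow_eq_true.mp (allBelow_eq_true.mp tn_basic a ha) v hv
  simp only [Bool.and_eq_true, beq_iff_eq] at h
  exact h.1.2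

theorem tn_tn {a v : ℕ} (ha : a < 64) (hv : v < 256) : tn a (tn a v) = v := by
  have h := allBelow_eq_true.mp (allBelow_eq_true.mp tn_basic a ha) v hv
  simp only [Bool.and_eq_true, Nat.beq_eq] at h
  exact h.2

theorem xor_cond_testBit (i j n c : ℕ) :
    (if (i ^^^ j).testBit n then c else 0) =
      (if i.testBit n then c else 0) ^^^ (if j.testBit n then c else 0) := by
  rw [Nat.testBit_xor]
  cases i.testBit n <;> cases j.testBit n <;> simp

theorem tn_xor (a i j : ℕ) : tn a (i ^^^ j) = tn a i ^^^ tn a j := by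
  simp only [tn, xor_cond_testBit]
  ac_rfl

/-- The spin image on vectors. -/
noncomputable def tF (a : ℕ) (x : V) : V := dc (tn a (cd x).val)

theorem tF_dc (a : ℕ) {v : ℕ} (hv : v < 256) : tF a (dc v) = dc (tn a v) := by
  rw [tF, cd_dc ⟨v, hv⟩]

theorem tF_add (a : ℕ) (x y : V) : tF a (x + y) = tF a x + tF a y := by
  obtain ⟨i, rfl⟩ := dc_surj x
  obtain ⟨j, rfl⟩ := dc_surj y
  rw [← dc_xor, tF_dc a (CoOneType.xor_lt i.2 j.2), tF_dc a i.2, tF_dc a j.2, tn_xor, dc_xor]

/-- The spin image of a transvection. -/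
noncomputable def tO (a : Fin 64) : O :=
  ⟨{ toFun := tF a
     map_add' := tF_add a
     map_smul' := fun c x => by
       rcases zmod_cases c with rfl | rfl
       · have h := tF_add a 0 0
         rw [add_zero, v_add_self] at h
         simpa using h
       · simp
     invFun := tF a
     left_inv := fun x => by
       obtain ⟨i, rfl⟩ := dc_surj x
       rw [tF_dc _ i.2, tF_dc _ (tn_lt a.2 i.2), tn_tn a.2 i.2]
     right_inv := fun x => by
       obtain ⟨i, rfl⟩ := dc_surj x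
       rw [tF_dc _ i.2, tF_dc _ (tn_lt a.2 i.2), tn_tn a.2 i.2] },
    fun x => by
      obtain ⟨i, rfl⟩ := dc_surj x
      show qP 4 (tF a (dc i.val)) = qP 4 (dc i.val)
      rw [tF_dc _ i.2, q_dc (tn_lt a.2 i.2), q_dc i.2, tn_qn a.2 i.2]⟩

theorem tO_dc (a : Fin 64) {v : ℕ} (hv : v < 256) : (tO a).1 (dc v) = dc (tn a v) := tF_dc a hv

theorem o_ext {g h : O} (e : ∀ n, n < 8 → g.1 (dc (1 <<< n)) = h.1 (dc (1 <<< n))) : g = h := by
  have hall : ∀ i : Fin 256, g.1 (dc i.val) = h.1 (dc i.val) := by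
    intro i
    have hb : allBelow 256 (fun v => Nat.beq v
        (((cond (v.testBit 0) (1 <<< 0) 0 ^^^ cond (v.testBit 1) (1 <<< 1) 0) ^^^
          (cond (v.testBit 2) (1 <<< 2) 0 ^^^ cond (v.testBit 3) (1 <<< 3) 0)) ^^^
         ((cond (v.testBit 4) (1 <<< 4) 0 ^^^ cond (v.testBit 5) (1 <<< 5) 0) ^^^
          (cond (v.testBit 6) (1 <<< 6) 0 ^^^ cond (v.testBit 7) (1 <<< 7) 0)))) = true := by
      decide +kernel
    have hc : ∀ (b : Bool) (n : ℕ), n < 8 →
        g.1 (dc (cond b (1 <<< n) 0)) = h.1 (dc (cond b (1 <<< n) 0)) := fun b n hn => by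
      cases b
      · rw [cond_false, dc_zero, map_zero, map_zero]
      · exact e n hn
    rw [Nat.eq_of_beq_eq_true (allBelow_eq_true.mp hb i.val i.2)]
    simp only [dc_xor, map_add]
    rw [hc _ 0 (by norm_num), hc _ 1 (by norm_num), hc _ 2 (by norm_num), hc _ 3 (by norm_num),
      hc _ 4 (by norm_num), hc _ 5 (by norm_num), hc _ 6 (by norm_num), hc _ 7 (by norm_num)]
  exact ext_oG fun x => by
    obtain ⟨i, rfl⟩ := dc_surj x
    exact hall i

theorem shl_lt {n : ℕ} (hn : n < 8) : 1 <<< n < 256 := by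
  rw [Nat.shiftLeft_eq, one_mul]
  exact Nat.pow_lt_pow_right (by norm_num) hn

theorem tO_sq (a : Fin 64) : tO a * tO a = 1 := o_ext fun n hn => by
  rw [oG_mul_apply, tO_dc a (shl_lt hn), tO_dc a (tn_lt a.2 (shl_lt hn)), tn_tn a.2 (shl_lt hn), oG_one_apply]

theorem tO_inj {a b : Fin 64} (h : tO a = tO b) : a = b := by
  have hh := allBelow_eq_true.mp (allBelow_eq_true.mp tn_inj_check a a.2) b b.2
  have he : allBelow 8 (fun n => Nat.beq (tn a (1 <<< n)) (tn b (1 <<< n))) = true :=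
    allBelow_eq_true.mpr fun n hn => by
      rw [Nat.beq_eq]
      exact dc_inj (tn_lt a.2 (shl_lt hn)) (tn_lt b.2 (shl_lt hn))
        (by rw [← tO_dc a (shl_lt hn), ← tO_dc b (shl_lt hn), h])
  rw [he, Bool.not_true, Bool.or_false] at hh
  exact Fin.ext (Nat.eq_of_beq_eq_true hh)

/-- The image of a centre. -/
noncomputable def apF (B : Sp) (a : Fin 64) : Fin 64 := ⟨ap B a, ap_lt B a⟩

theorem apF_mul (A B : Sp) (a : Fin 64) : apF (A * B) a = apF A (apF B a) := Fin.ext (ap_mul A B a)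

theorem apF_one (a : Fin 64) : apF 1 a = a := Fin.ext (ap_one a.2)

theorem tO_conj (a b : Fin 64) : tO b * tO a * (tO b)⁻¹ = tO (apF (tv b) a) := by
  refine mul_inv_eq_of_eq_mul (o_ext fun n hn => ?_)
  have hv := shl_lt hn
  rw [oG_mul_apply, oG_mul_apply, tO_dc a hv, tO_dc b (tn_lt a.2 hv), tO_dc b hv,
    tO_dc _ (tn_lt b.2 hv)]
  show _ = dc (tn (ap (tv b) a) _)
  rw [ap_tv b.2 a.2,
    Nat.eq_of_beq_eq_true (allBelow_eq_true.mp (allBelow_eq_true.mp (allBelow_eq_true.mp tn_conj a a.2) b b.2) n hn)]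

theorem tO_mem_gens {a : Fin 64} (h : a.val ≠ 0) : tO a ∈ spinGens :=
  ⟨a, h, fun v => tO_dc a v.2⟩

theorem tO_zero : tO 0 = 1 := o_ext fun n hn => by
  rw [tO_dc 0 (shl_lt hn), oG_one_apply]
  exact congrArg dc (Nat.eq_of_beq_eq_true (allBelow_eq_true.mp tn_zero_check _ (shl_lt hn)))

theorem tO_mem (a : Fin 64) : tO a ∈ sp6 := by
  by_cases h : a.val = 0
  · rw [show a = 0 from Fin.ext h, tO_zero]
    exact one_mem _
  · exact Subgroup.subset_closure (tO_mem_gens h)

theorem gens_eq {o : O} (h : o ∈ spinGens) : ∃ a : Fin 64, o = tO a := by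
  obtain ⟨a, -, ha⟩ := h
  exact ⟨a, o_ext fun n hn => (ha ⟨_, shl_lt hn⟩).trans (tO_dc a (shl_lt hn)).symm⟩

/-- The element permuting the images of the transvections as the matrix does their centres. -/
def Rel (o : O) (B : Sp) : Prop := ∀ a, o * tO a * o⁻¹ = tO (apF B a)

theorem rel_mul {o p : O} {A B : Sp} (ho : Rel o A) (hp : Rel p B) : Rel (o * p) (A * B) := fun a => by
  rw [apF_mul, ← ho, ← hp]
  group

theorem rel_one : Rel 1 1 := fun a => by rw [apF_one]; group

theorem rel_tO (a : Fin 64) : Rel (tO a) (tv a) := fun b => tO_conj b a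

theorem rel_unique {o : O} {A B : Sp} (hA : Rel o A) (hB : Rel o B) : A = B :=
  sp_ext fun x hx => congrArg Fin.val (tO_inj ((hA ⟨x, hx⟩).symm.trans (hB ⟨x, hx⟩)))

theorem exists_rel {o : O} (ho : o ∈ sp6) : ∃ B, Rel o B := by
  induction ho using Subgroup.closure_induction with
  | mem x hx => obtain ⟨a, rfl⟩ := gens_eq hx; exact ⟨_, rel_tO a⟩
  | one => exact ⟨1, rel_one⟩
  | mul x y _ _ hx hy => exact ⟨_, rel_mul hx.choose_spec hy.choose_spec⟩
  | inv x _ hx =>
    obtain ⟨A, hA⟩ := hx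
    refine ⟨A⁻¹, fun a => ?_⟩
    have h := hA (apF A⁻¹ a)
    rw [← apF_mul, mul_inv_cancel, apF_one] at h
    rw [← h]
    group

/-- The map back onto the symplectic group. -/
noncomputable def χ : ↥sp6 →* Sp :=
  MonoidHom.mk' (fun o => (exists_rel o.2).choose) fun o p =>
    rel_unique (exists_rel (o * p).2).choose_spec
      (rel_mul (exists_rel o.2).choose_spec (exists_rel p.2).choose_spec)

theorem χ_eq {o : ↥sp6} {B : Sp} (h : Rel o.1 B) : χ o = B := rel_unique (exists_rel o.2).choose_spec h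

theorem χ_tO (a : Fin 64) : χ ⟨tO a, tO_mem a⟩ = tv a := χ_eq (rel_tO a)

theorem χ_surjective : Function.Surjective χ := fun B =>
  sp_induction (P := fun B => ∃ o, χ o = B) ⟨1, map_one χ⟩
    (fun _ _ ⟨o, ho⟩ ⟨p, hp⟩ => ⟨o * p, by rw [map_mul, ho, hp]⟩)
    (fun a ha => ⟨_, χ_tO ⟨a, ha⟩⟩) B

/-- The image of the base transvection. -/
noncomputable def tS : ↥sp6 := ⟨tO 1, tO_mem 1⟩

/-- The image of the product of two commuting transvections. -/
noncomputable def cS : ↥sp6 := ⟨tO 2 * tO 3, mul_mem (tO_mem 2) (tO_mem 3)⟩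

theorem χ_tS : χ tS = tT := χ_tO 1

theorem χ_cS : χ cS = cT := by
  rw [show cS = ⟨tO 2, tO_mem 2⟩ * ⟨tO 3, tO_mem 3⟩ from rfl, map_mul, χ_tO, χ_tO]
  rfl

/-- The axis is totally singular, the image of the element plus one, and its own orthogonal. -/
structure GoodAxis (o : O) : Prop where
  fix : ∀ v, o.1 v = v → ∃ u, o.1 u + u = v
  ts : ∀ v, o.1 v = v → qP 4 v = 0
  perp : ∀ w, (∀ v, o.1 v = v → Bp w v = 0) → o.1 w = w

theorem goodAxis_of_fixB {o : O} {f : ℕ → ℕ} (hlt : ∀ v, v < 256 → f v < 256)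
    (hf : ∀ v, v < 256 → o.1 (dc v) = dc (f v)) (h : fixB f = true) : GoodAxis o := by
  simp only [fixB, allBelow_eq_true, Bool.and_eq_true, Bool.or_eq_true, Bool.not_eq_true',
    List.any_eq_true, List.mem_range, Nat.beq_eq] at h
  have hfix : ∀ {v : ℕ}, v < 256 → o.1 (dc v) = dc v → f v = v := fun hv e =>
    dc_inj (hlt _ hv) hv ((hf _ hv).symm.trans e)
  refine ⟨fun x hx => ?_, fun x hx => ?_, fun x hx => ?_⟩
  · obtain ⟨i, rfl⟩ := dc_surj x
    have hi := hfix i.2 hx
    rcases (h i.val i.2).1 with e | ⟨-, u, hu, e⟩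
    · rw [hi, Nat.beq_refl] at e; exact absurd e (by simp)
    · exact ⟨dc u, by rw [hf u hu, ← dc_xor, e]⟩
  · obtain ⟨i, rfl⟩ := dc_surj x
    have hi := hfix i.2 hx
    rcases (h i.val i.2).1 with e | ⟨e, -⟩
    · rw [hi, Nat.beq_refl] at e; exact absurd e (by simp)
    · rw [q_dc i.2, e]; rfl
  · obtain ⟨i, rfl⟩ := dc_surj x
    rcases (h i.val i.2).2 with e | ⟨w, hw, e, hb⟩
    · rw [hf _ i.2, e]
    · have h0 := hx (dc w) (by rw [hf w hw, e])
      rw [Bp_dc i.2 hw, hb] at h0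
      exact absurd h0 (by decide)

theorem goodAxis_tS : GoodAxis tS.1 :=
  goodAxis_of_fixB (f := tn 1) (fun _ => tn_lt (by norm_num)) (fun _ hv => tO_dc 1 hv) tn_fix_t

theorem goodAxis_cS : GoodAxis cS.1 :=
  goodAxis_of_fixB (f := fun v => tn 2 (tn 3 v))
    (fun v hv => tn_lt (by norm_num) (tn_lt (by norm_num) hv))
    (fun v hv => by
      show (tO 2 * tO 3).1 (dc v) = _
      rw [oG_mul_apply, tO_dc 3 hv, tO_dc 2 (tn_lt (by norm_num) hv)]
      rfl) tn_fix_c

variable {G : Type*} [Group G] [Finite G] {z : G}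

theorem card_oc (S : CoOneWeak.Base z) : Nat.card ↥(oc z) = 512 := by
  let f : ↥(oc z) →* Multiplicative V :=
    MonoidHom.mk' (fun a => Multiplicative.ofAdd (S.pr a)) fun a b => by
      rw [← ofAdd_add]; exact congrArg _ (S.pr_mul a a.2 b b.2)
  have hs : Function.Surjective f := fun x => by
    obtain ⟨a, ha, e⟩ := S.pr_surj x.toAdd
    exact ⟨⟨a, ha⟩, congrArg Multiplicative.ofAdd e⟩
  have hk : f.ker = Subgroup.zpowers (⟨z, S.zmem⟩ : ↥(oc z)) := by
    refine le_antisymm (fun a ha => ?_) (Subgroup.zpowers_le.2 ?_)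
    · rcases S.pr_ker a a.2 (Multiplicative.ofAdd.injective ((MonoidHom.mem_ker.1 ha).trans ofAdd_zero.symm)) with e | e
      · rw [show a = 1 from Subtype.ext e]; exact one_mem _
      · rw [show a = ⟨z, S.zmem⟩ from Subtype.ext e]; exact Subgroup.mem_zpowers _
    · show Multiplicative.ofAdd (S.pr z) = 1
      rw [S.pr_z]; rfl
  have h := f.ker.card_mul_index
  rw [Subgroup.index_ker, MonoidHom.range_eq_top.2 hs, Subgroup.card_top, hk, Nat.card_zpowers,
    show orderOf (⟨z, S.zmem⟩ : ↥(oc z)) = 2 by rw [← Subgroup.orderOf_coe]; exact S.sett.ord] at h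
  rw [← h]
  simp

/-- The map of the centraliser onto the symplectic group. -/
noncomputable def centMap (S : CoT z) : ↥(Subgroup.centralizer ({z} : Set G)) →* Sp :=
  χ.comp (MonoidHom.mk' (fun c => ⟨S.act c.1, S.act_mem c.1 (Subgroup.mem_centralizer_singleton_iff.1 c.2)⟩)
    fun c d => Subtype.ext (S.toBase.act_mul (Subgroup.mem_centralizer_singleton_iff.1 c.2)
      (Subgroup.mem_centralizer_singleton_iff.1 d.2)))

theorem centMap_apply (S : CoT z) (c : ↥(Subgroup.centralizer ({z} : Set G))) :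
    centMap S c = χ ⟨S.act c.1, S.act_mem c.1 (Subgroup.mem_centralizer_singleton_iff.1 c.2)⟩ := rfl

theorem χ_injective (S : CoT z) : Function.Injective χ := by
  let f : ↥(Subgroup.centralizer ({z} : Set G)) →* ↥sp6 :=
    MonoidHom.mk' (fun c => ⟨S.act c.1, S.act_mem c.1 (Subgroup.mem_centralizer_singleton_iff.1 c.2)⟩)
      fun c d => Subtype.ext (S.toBase.act_mul (Subgroup.mem_centralizer_singleton_iff.1 c.2)
        (Subgroup.mem_centralizer_singleton_iff.1 d.2))
  have hs : Function.Surjective f := fun o => by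
    obtain ⟨c, hc, e⟩ := S.act_surj o.1 o.2
    exact ⟨⟨c, Subgroup.mem_centralizer_singleton_iff.2 hc⟩, Subtype.ext e⟩
  have hk : f.ker = (oc z).subgroupOf (Subgroup.centralizer ({z} : Set G)) := by
    ext c
    refine ⟨fun h => S.act_ker c.1 (Subgroup.mem_centralizer_singleton_iff.1 c.2) (congrArg Subtype.val h),
      fun h => Subtype.ext (S.toBase.act_inner h)⟩
  have hcard : Nat.card ↥sp6 = 1451520 := by
    have h := f.ker.card_mul_index
    rw [Subgroup.index_ker, MonoidHom.range_eq_top.2 hs, Subgroup.card_top, hk, S.cent_card,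
      Nat.card_congr (Subgroup.subgroupOfEquivOfLe (fun a ha => Subgroup.mem_centralizer_singleton_iff.2
        (S.toBase.comm ha))).toEquiv, card_oc S.toBase] at h
    omega
  have : Finite ↥sp6 := Finite.of_surjective f hs
  exact ((Nat.bijective_iff_surjective_and_card χ).2 ⟨χ_surjective, by rw [hcard, Co3Rec.card_Sp]⟩).1

end Cfsg.Agent.CoTwoUniq.Cent
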