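import Cfsg.Agent.Co3Rec.Facts

/-!
The involutions of the double cover of `Sp6(2)` lie over involutions of the symplectic group which are
alternating or fix few points: never over a transvection or a product of two commuting transvections.
-/

set_option autoImplicit false
set_option maxRecDepth 100000

open Cfsg.Agent.Co3Rec Cfsg.Agent.Compute Cfsg.Agent.StemCert

namespace Cfsg.Agent.CoTwoUniq.Cent

/-- Parity of three bits. -/
def par3 (x : ℕ) : Bool := (x.testBit 0 != x.testBit 1) != x.testBit 2

/-- The alternating form on the codes of the vectors. -/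
def sympB (a b : ℕ) : Bool := par3 ((a % 8) &&& (b / 8)) != par3 ((a / 8) &&& (b % 8))

/-- Every vector is orthogonal to its image. -/
def IsAlt (π : Equiv.Perm (Fin 63)) : Prop := ∀ p : Fin 63, sympB ((p : ℕ) + 1) ((π p : ℕ) + 1) = false

/-- The classes with involutions above. -/
def Liftable (π : Equiv.Perm (Fin 63)) : Prop := IsAlt π ∨ Nat.card {p : Fin 63 // π p = p} < 15

theorem symp_gens : allBelow 6 (fun s => allBelow 63 fun p => allBelow 63 fun q =>
    sympB (Nat.add (getField 6 (SympMult.SpSix.codes.getD s 0) p) 1)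
      (Nat.add (getField 6 (SympMult.SpSix.codes.getD s 0) q) 1) == sympB (Nat.add p 1) (Nat.add q 1)) = true := by
  decide +kernel

theorem symp_ι (A : Sp) (p q : Fin 63) :
    sympB ((ι63 A p : ℕ) + 1) ((ι63 A q : ℕ) + 1) = sympB ((p : ℕ) + 1) ((q : ℕ) + 1) := by
  have hA := SympMult.SpSix.g_gen card_zmod_two A
  revert p q
  induction hA using Submonoid.closure_induction with
  | mem x hx =>
    obtain ⟨s, hs, rfl⟩ := hx
    intro p q
    have h := allBelow_eq_true.mp (allBelow_eq_true.mp (allBelow_eq_true.mp symp_gens s hs) p p.2) q q.2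
    simp only [beq_iff_eq] at h
    rw [SympMult.SpSix.g_coded card_zmod_two s hs p, SympMult.SpSix.g_coded card_zmod_two s hs q]
    exact h
  | one => intro p q; rw [map_one]; rfl
  | mul x y _ _ hx hy =>
    intro p q
    rw [map_mul, Equiv.Perm.mul_apply, Equiv.Perm.mul_apply, hx, hy]

theorem liftable_conj (A B : Sp) (h : Liftable (ι63 A)) : Liftable (ι63 (B * A * B⁻¹)) := by
  rcases h with h | h
  · refine Or.inl fun p => ?_
    obtain ⟨q, rfl⟩ := (ι63 B).surjective p
    rw [map_mul, map_mul, map_inv, Equiv.Perm.mul_apply, Equiv.Perm.mul_apply, Equiv.Perm.inv_def,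
      Equiv.symm_apply_apply, symp_ι]
    exact h q
  · refine Or.inr (lt_of_eq_of_lt ?_ h)
    refine Nat.card_congr ((ι63 B).symm.subtypeEquiv fun p => ?_)
    rw [map_mul, map_mul, map_inv, Equiv.Perm.mul_apply, Equiv.Perm.mul_apply, Equiv.Perm.inv_def]
    exact ((ι63 B).eq_symm_apply).symm

/-- The point fixed-point test on a word. -/
noncomputable def liftB (l : List ℕ) : Bool :=
  allBelow 63 (fun p => !(sympB (Nat.add p 1) (Nat.add (rowApp l p) 1))) ||
    Nat.blt ((List.range 63).filter fun p => Nat.beq (rowApp l p) p).length 15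

theorem ab_check : (ltB 3 (Data.cWords.getD Data.aL []) && ltB 3 (Data.cWords.getD Data.bL []) &&
    liftB (Data.cWords.getD Data.aL []) && liftB (Data.cWords.getD Data.bL []) &&
    liftB []) = true := by decide +kernel

theorem ev_cg : ∀ (l : List ℕ), (∀ s ∈ l, s < 3) → ((evalW cg l : C0) : R) = ctx.ev l
  | [], _ => by simp [evalW]
  | s :: l, h => by
    rw [evalW_cons, Subgroup.coe_mul, ev_cg l (fun r hr => h r (List.mem_cons_of_mem _ hr)), Ctx.ev_cons]
    simp [cg, h s List.mem_cons_self]

theorem liftable_word {l : List ℕ} (hl : ∀ s ∈ l, s < 3) (h : liftB l = true) :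
    Liftable (ι63 (σ (evalW cg l))) := by
  rw [σ_spec]
  simp only [liftB, Bool.or_eq_true, allBelow_eq_true, Bool.not_eq_true', Nat.blt_eq] at h
  rcases h with h | h
  · refine Or.inl fun p => ?_
    rw [θ_word l hl p]
    exact h p p.2
  · refine Or.inr (lt_of_eq_of_lt ?_ h)
    have e : ∀ p : Fin 63, θ (evalW cg l) p = p ↔ Nat.beq (rowApp l p) p = true := fun p => by
      rw [Fin.ext_iff, θ_word l hl p, Nat.beq_eq]
    rw [Nat.card_congr (Equiv.subtypeEquivRight e), Nat.card_eq_fintype_card, Fintype.card_subtype,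
      ← List.toFinset_card_of_nodup (List.nodup_range.filter _)]
    refine Finset.card_bij (fun p _ => (p : ℕ)) ?_ (fun p _ q _ => Fin.ext) ?_
    · intro p hp
      have hp' := (Finset.mem_filter.1 hp).2
      exact List.mem_toFinset.2 (List.mem_filter.2 ⟨List.mem_range.2 p.2, hp'⟩)
    · intro i hi
      obtain ⟨h1, h2⟩ := List.mem_filter.1 (List.mem_toFinset.1 hi)
      exact ⟨⟨i, List.mem_range.1 h1⟩, Finset.mem_filter.2 ⟨Finset.mem_univ _, h2⟩, rfl⟩

/-- Involutions of the cover lie over liftable elements. -/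
theorem liftable_of_involution (x : C0) (hx : x * x = 1) : Liftable (ι63 (σ x)) := by
  have h := ab_check
  simp only [Bool.and_eq_true] at h
  obtain ⟨⟨⟨⟨ha, hb⟩, la⟩, lb⟩, l1⟩ := h
  have hone : Liftable (ι63 (σ (1 : C0))) := liftable_word (l := []) (by simp) l1
  by_cases hx1 : x = 1
  · rw [hx1]; exact hone
  have hletter : ∀ s, s < Data.kC → ltB 3 (Data.cWords.getD s []) = true →
      ((evalW cg (Data.cWords.getD s []) : C0) : R) = ctx.gen s := fun s hs hl => by
    have hw := allBelow_eq_true.mp cWords_ok s hs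
    simp only [Bool.and_eq_true] at hw
    rw [ev_cg _ (ltB_iff.mp hl), ← ctx.ev_single, eq_of_same hw.2]
  rcases involution_C0 x.2 (congrArg Subtype.val hx) (fun e => hx1 (Subtype.ext e)) with e | ⟨v, hv, e⟩ | ⟨v, hv, e⟩
  · rw [show x = tC from Subtype.ext e, MonoidHom.mem_ker.1 tC_ker, ← map_one σ]
    exact hone
  · rw [show x = ⟨v, hv⟩ * evalW cg (Data.cWords.getD Data.aL []) * (⟨v, hv⟩ : C0)⁻¹ from Subtype.ext (by
      rw [Subgroup.coe_mul, Subgroup.coe_mul, Subgroup.coe_inv, hletter _ aL_lt.1 ha]; exact e),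
      map_mul σ, map_mul σ, map_inv σ]
    exact liftable_conj _ _ (liftable_word (ltB_iff.mp ha) la)
  · rw [show x = ⟨v, hv⟩ * evalW cg (Data.cWords.getD Data.bL []) * (⟨v, hv⟩ : C0)⁻¹ from Subtype.ext (by
      rw [Subgroup.coe_mul, Subgroup.coe_mul, Subgroup.coe_inv, hletter _ aL_lt.2 hb]; exact e),
      map_mul σ, map_mul σ, map_inv σ]
    exact liftable_conj _ _ (liftable_word (ltB_iff.mp hb) lb)

end Cfsg.Agent.CoTwoUniq.Cent
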