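import Cfsg.Agent.CoTwoUniq.Cent.ClassChecks

/-!
Kernel checks for the classes of involutions of `Sp6(2)`.
-/

set_option autoImplicit false
set_option maxRecDepth 100000

open Cfsg.Agent.Compute
open Cfsg.Agent.SympMult.SpSix (bB tvImg tvApp)

namespace Cfsg.Agent.CoTwoUniq.Cent

theorem step_two : (allBelow 64 fun b => bB b 1 || Nat.blt b 2 ||
    (List.range 64).any fun c => !(bB c 1) && (List.range 64).any fun d => !(bB d 1) &&
      Nat.beq (tvImg c (tvImg d b)) 2 && Nat.beq (tvImg c (tvImg d 1)) 1) = true := by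
  decide +kernel

theorem step_three : (allBelow 64 fun b => bB b 1 || bB b 2 || Nat.blt b 4 ||
    (List.range 64).any fun c => !(bB c 1 || bB c 2) && (List.range 64).any fun d => !(bB d 1 || bB d 2) &&
      Nat.beq (tvImg c (tvImg d b)) 4 && Nat.beq (tvImg c (tvImg d 1)) 1 &&
      Nat.beq (tvImg c (tvImg d 2)) 2) = true := by
  decide +kernel

/-- The candidate agrees with a word. -/
noncomputable def eqW (i j k : ℕ) (w : List ℕ) : Bool :=
  Nat.beq (uf i j k 8) (tvApp w 8) && Nat.beq (uf i j k 16) (tvApp w 16) &&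
    Nat.beq (uf i j k 32) (tvApp w 32)

theorem class_check : (allBelow 8 fun i => allBelow 8 fun j => allBelow 8 fun k =>
    !(bB (uf i j k 8) (uf i j k 16) == bB 8 16) || !(bB (uf i j k 8) (uf i j k 32) == bB 8 32) ||
      !(bB (uf i j k 16) (uf i j k 32) == bB 16 32) ||
    eqW i j k [] || ((List.range 8).any fun a => !(Nat.beq a 0) && (eqW i j k [a] ||
      (List.range 8).any fun b => !(Nat.beq b 0) && !(Nat.beq a b) && (eqW i j k [a, b] || eqW i j k [a, b, a ^^^ b] ||
        (List.range 8).any fun c => !(Nat.beq c 0) && !(Nat.beq c a) && !(Nat.beq c b) && !(Nat.beq c (a ^^^ b)) &&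
          eqW i j k [a, b, c])))) = true := by
  decide +kernel

theorem fix32_check : (allBelow 8 fun i => allBelow 8 fun j => allBelow 8 fun k =>
    !(bB (uf i j k 8) (uf i j k 16) == bB 8 16) || !(bB (uf i j k 8) (uf i j k 32) == bB 8 32) ||
      !(bB (uf i j k 16) (uf i j k 32) == bB 16 32) || !(Nat.beq (uf i j k 32) 32) ||
    eqW i j k [] || eqW i j k [1, 2, 3] || ((List.range 4).any fun a => !(Nat.beq a 0) && (eqW i j k [a] ||
      (List.range 4).any fun b => !(Nat.beq b 0) && !(Nat.beq a b) && eqW i j k [a, b]))) = true := by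
  decide +kernel

theorem lag_check : (allBelow 8 fun a => allBelow 8 fun b => !(bB a b)) = true := by decide +kernel

theorem nondeg_check : (allBelow 64 fun x => Nat.beq x 0 ||
    bB x 1 || bB x 2 || bB x 4 || bB x 8 || bB x 16 || bB x 32) = true := by decide +kernel

theorem bB_symm_check : (allBelow 64 fun x => allBelow 64 fun y => bB x y == bB y x) = true := by
  decide +kernel

theorem w_check : (allBelow 64 fun x =>
    !(List.elem x [1, 2, 4, 32]) || Nat.beq (tvApp [1, 2, 3] x) x) = true := by
  decide +kernel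

end Cfsg.Agent.CoTwoUniq.Cent
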