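import Cfsg.Agent.CoTwoUniq.Cent.InvolChecks
import Cfsg.Agent.CoTwoUniq.Cent.Classes

/-!
The involutions of `Sp6(2)`: four classes, and the elements of a subgroup normalised by the centraliser of
a product of three transvections on a line.
-/

set_option autoImplicit false
set_option maxRecDepth 100000

open Cfsg.Agent.Co3Rec Cfsg.Agent.Compute Cfsg.Agent.StemCert
open Cfsg.Agent.SympMult.SpSix (bB tvImg tvApp)

namespace Cfsg.Agent.CoTwoUniq.Cent

/-- The product of the three transvections of a line. -/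
noncomputable def aT : Sp := tv 1 * tv 2 * tv 3

/-- The product of three transvections with independent orthogonal centres. -/
noncomputable def bT : Sp := tv 1 * tv 2 * tv 4

theorem bB_symm {x y : ℕ} (hx : x < 64) (hy : y < 64) : bB x y = bB y x :=
  eq_of_beq (allBelow_eq_true.mp (allBelow_eq_true.mp bB_symm_check x hx) y hy)

theorem xor_six : ∀ a₁ b₁ a₂ b₂ a₃ b₃ a₄ b₄ a₅ b₅ a₆ b₆ : Bool,
    (((a₁ ^^ b₁) ^^ (a₂ ^^ b₂)) ^^ (((a₃ ^^ b₃) ^^ (a₄ ^^ b₄)) ^^ ((a₅ ^^ b₅) ^^ (a₆ ^^ b₆)))) =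
      (((a₁ ^^ a₂) ^^ ((a₃ ^^ a₄) ^^ (a₅ ^^ a₆))) ^^ ((b₁ ^^ b₂) ^^ ((b₃ ^^ b₄) ^^ (b₅ ^^ b₆)))) := by
  decide +kernel

theorem bB_xor_right (x a b : ℕ) : bB x (a ^^^ b) = (bB x a ^^ bB x b) := by
  simp only [bB, Nat.testBit_xor, Bool.and_xor_distrib_left]
  exact xor_six _ _ _ _ _ _ _ _ _ _ _ _

theorem tv_comm {a b : ℕ} (ha : a < 64) (hb : b < 64) (h : bB b a = false) : tv a * tv b = tv b * tv a := by
  have e := conj_tv (tv a) hb
  rw [ap_tv ha hb, tvImg, h, cond_false, show Nat.xor b 0 = b from Nat.xor_zero b] at e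
  exact mul_inv_eq_iff_eq_mul.1 e

theorem ap_word2 {c d x : ℕ} (hc : c < 64) (hd : d < 64) (hx : x < 64) :
    ap (tv c * tv d) x = tvImg c (tvImg d x) := by
  rw [ap_mul, ap_tv hd hx, ap_tv hc (tvImg_lt hd hx)]

theorem move_two {b : ℕ} (hb : b < 64) (h1 : bB b 1 = false) (h2 : ¬ b < 2) :
    ∃ g : Sp, ap g 1 = 1 ∧ ap g b = 2 := by
  have h := allBelow_eq_true.mp step_two b hb
  simp only [h1, Bool.false_or, Bool.or_eq_true, Nat.blt_eq, List.any_eq_true, List.mem_range,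
    Bool.and_eq_true, Nat.beq_eq] at h
  obtain ⟨c, hc, -, d, hd, ⟨-, e1⟩, e2⟩ := h.resolve_left h2
  exact ⟨tv c * tv d, by rw [ap_word2 hc hd (by norm_num), e2], by rw [ap_word2 hc hd hb, e1]⟩

theorem move_three {b : ℕ} (hb : b < 64) (h1 : bB b 1 = false) (h2 : bB b 2 = false) (h4 : ¬ b < 4) :
    ∃ g : Sp, ap g 1 = 1 ∧ ap g 2 = 2 ∧ ap g b = 4 := by
  have h := allBelow_eq_true.mp step_three b hb
  simp only [h1, h2, Bool.false_or, Bool.or_eq_true, Nat.blt_eq, List.any_eq_true, List.mem_range,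
    Bool.and_eq_true, Nat.beq_eq] at h
  obtain ⟨c, hc, -, d, hd, ⟨⟨-, e1⟩, e2⟩, e3⟩ := h.resolve_left h4
  exact ⟨tv c * tv d, by rw [ap_word2 hc hd (by norm_num), e2], by rw [ap_word2 hc hd (by norm_num), e3],
    by rw [ap_word2 hc hd hb, e1]⟩

theorem move_one {a : ℕ} (ha : a < 64) (h0 : a ≠ 0) : ∃ g : Sp, ap g a = 1 := by
  obtain ⟨g, hg⟩ := conj_to_tT ha h0
  rw [conj_tv g ha] at hg
  exact ⟨g, tv_inj (ap_lt _ _) (by norm_num) hg⟩

theorem ap_ne (g : Sp) {a b : ℕ} (ha : a < 64) (hb : b < 64) (h : a ≠ b) : ap g a ≠ ap g b :=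
  fun e => h (by rw [← ap_inv_ap g ha, e, ap_inv_ap g hb])

/-- Two orthogonal centres to the first two codes. -/
theorem frame_two {a b : ℕ} (ha : a < 64) (hb : b < 64) (ha0 : a ≠ 0) (hb0 : b ≠ 0) (hab : a ≠ b)
    (hB : bB b a = false) : ∃ g : Sp, ap g a = 1 ∧ ap g b = 2 := by
  obtain ⟨g, hg⟩ := move_one ha ha0
  have h1 : bB (ap g b) 1 = false := (congrArg (bB _) hg.symm).trans ((bB_ap g hb ha).trans (hB))
  have h2 : ¬ ap g b < 2 := by
    have e0 : ap g b ≠ 0 := fun e => ap_ne g hb (by norm_num : 0 < 64) hb0 (e.trans (ap_zero g).symm)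
    have e1 : ap g b ≠ 1 := fun e => ap_ne g ha hb hab (hg.trans e.symm)
    omega
  obtain ⟨g', e1, e2⟩ := move_two (ap_lt g b) h1 h2
  exact ⟨g' * g, by rw [ap_mul, hg, e1], by rw [ap_mul, e2]⟩

/-- Three independent orthogonal centres to the first three unit codes. -/
theorem frame_three {a b c : ℕ} (ha : a < 64) (hb : b < 64) (hc : c < 64) (ha0 : a ≠ 0) (hb0 : b ≠ 0)
    (hab : a ≠ b) (hB : bB b a = false) (hc0 : c ≠ 0) (hca : c ≠ a) (hcb : c ≠ b) (hcab : c ≠ a ^^^ b)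
    (hA : bB c a = false) (hC : bB c b = false) : ∃ g : Sp, ap g a = 1 ∧ ap g b = 2 ∧ ap g c = 4 := by
  obtain ⟨g, g1, g2⟩ := frame_two ha hb ha0 hb0 hab hB
  have h1 : bB (ap g c) 1 = false := (congrArg (bB _) g1.symm).trans ((bB_ap g hc ha).trans (hA))
  have h2 : bB (ap g c) 2 = false := (congrArg (bB _) g2.symm).trans ((bB_ap g hc hb).trans (hC))
  have h4 : ¬ ap g c < 4 := by
    have e0 : ap g c ≠ 0 := fun e => ap_ne g hc (by norm_num : 0 < 64) hc0 (e.trans (ap_zero g).symm)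
    have e1 : ap g c ≠ 1 := fun e => ap_ne g hc ha hca (e.trans g1.symm)
    have e2 : ap g c ≠ 2 := fun e => ap_ne g hc hb hcb (e.trans g2.symm)
    have e3 : ap g c ≠ 1 ^^^ 2 := fun e =>
      ap_ne g hc (xor_lt ha hb) hcab (e.trans (by rw [ap_xor, g1, g2]))
    rw [show (1 : ℕ) ^^^ 2 = 3 from rfl] at e3
    omega
  obtain ⟨g', e1, e2, e3⟩ := move_three (ap_lt g c) h1 h2 h4
  exact ⟨g' * g, by rw [ap_mul, g1, e1], by rw [ap_mul, g2, e2], by rw [ap_mul, e3]⟩

theorem fixer_word {A : Sp} (hA : A ∈ fixer) {i j k : ℕ}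
    (hAu : ∀ x, x < 64 → ap A x = uf i j k x) {w : List ℕ} (hw : ∀ a ∈ w, a < 8) (h : eqW i j k w = true) :
    A = evalW tv w := by
  have hw' : ∀ a ∈ w, a < 64 := fun a ha => lt_trans (hw a ha) (by norm_num)
  have hm : evalW tv w ∈ fixer := list_prod_mem fun x hx => by
    obtain ⟨a, ha, rfl⟩ := List.mem_map.1 hx
    exact fixer_tv a (hw a ha)
  simp only [eqW, Bool.and_eq_true, Nat.beq_eq] at h
  obtain ⟨⟨h8, h16⟩, h32⟩ := h
  rw [← hAu 8 (by norm_num), ← (ap_word w hw' 8 (by norm_num)).1] at h8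
  rw [← hAu 16 (by norm_num), ← (ap_word w hw' 16 (by norm_num)).1] at h16
  rw [← hAu 32 (by norm_num), ← (ap_word w hw' 32 (by norm_num)).1] at h32
  refine sp_ext fun x hx => ?_
  rw [Nat.eq_of_beq_eq_true (allBelow_eq_true.mp bits_check x hx)]
  have hb : ∀ (B : Sp) (b : Bool) (v : ℕ), ap B (cond b v 0) = cond b (ap B v) 0 := fun B b v => by
    cases b
    · exact ap_zero B
    · rfl
  simp only [ap_xor, hb, hA 1 (by norm_num), hA 2 (by norm_num), hA 4 (by norm_num),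
    hm 1 (by norm_num), hm 2 (by norm_num), hm 4 (by norm_num), h8, h16, h32]

theorem lag {a b : ℕ} (ha : a < 8) (hb : b < 8) : bB a b = false := by
  simpa using allBelow_eq_true.mp (allBelow_eq_true.mp lag_check a ha) b hb

theorem conj_mul' {H : Type*} [Group H] (g x y : H) : g * (x * y) * g⁻¹ = g * x * g⁻¹ * (g * y * g⁻¹) := by
  group

/-- The involutions fixing the codes below eight. -/
theorem fixer_classes {A : Sp} (hA : A ∈ fixer) (h1 : A ≠ 1) :
    ∃ g : Sp, g * A * g⁻¹ = tT ∨ g * A * g⁻¹ = cT ∨ g * A * g⁻¹ = aT ∨ g * A * g⁻¹ = bT := by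
  obtain ⟨i, hi, j, hj, k, hk, hu⟩ := fixer_form hA
  have hc := allBelow_eq_true.mp (allBelow_eq_true.mp (allBelow_eq_true.mp class_check i hi) j hj) k hk
  simp only [← hu 8 (by norm_num), ← hu 16 (by norm_num), ← hu 32 (by norm_num),
    bB_ap A (show 8 < 64 by norm_num) (show 16 < 64 by norm_num),
    bB_ap A (show 8 < 64 by norm_num) (show 32 < 64 by norm_num),
    bB_ap A (show 16 < 64 by norm_num) (show 32 < 64 by norm_num),
    beq_self_eq_true, Bool.not_true, Bool.false_or, Bool.or_eq_true, List.any_eq_true, List.mem_range,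
    Bool.and_eq_true, Bool.not_eq_true'] at hc
  rcases hc with hc | ⟨a, ha, ha0, hc | ⟨b, hb, ⟨hb0, hab⟩, (hc | hc) | ⟨c, hcl, ⟨⟨⟨hc0, hca⟩, hcb⟩, hcab⟩, hc⟩⟩⟩
  · exact absurd (fixer_word hA hu (w := []) (by simp) hc) (by simpa [evalW] using h1)
  all_goals have ha' : a < 64 := by omega
  all_goals have ha0' : a ≠ 0 := fun e => by rw [e] at ha0; exact absurd ha0 (by decide)
  · obtain ⟨g, hg⟩ := conj_to_tT ha' ha0'
    refine ⟨g, Or.inl ?_⟩
    rw [fixer_word hA hu (w := [a]) (by simpa using ha) hc]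
    simpa [evalW] using hg
  all_goals have hb' : b < 64 := by omega
  all_goals have hb0' : b ≠ 0 := fun e => by rw [e] at hb0; exact absurd hb0 (by decide)
  all_goals have hab' : a ≠ b := fun e => by rw [e, Nat.beq_refl] at hab; exact absurd hab (by decide)
  · obtain ⟨g, hg⟩ := conj_to_cT ha' hb' ha0' hb0' hab' (lag ha hb)
    refine ⟨g, Or.inr (Or.inl ?_)⟩
    rw [fixer_word hA hu (w := [a, b]) (by simp [ha, hb]) hc]
    simpa [evalW] using hg
  · obtain ⟨g, g1, g2⟩ := frame_two ha' hb' ha0' hb0' hab' (lag hb ha)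
    refine ⟨g, Or.inr (Or.inr (Or.inl ?_))⟩
    have hx : a ^^^ b < 8 := Nat.xor_lt_two_pow (n := 3) ha hb
    rw [fixer_word hA hu (w := [a, b, a ^^^ b]) (by simp [ha, hb, hx]) hc,
      show evalW tv [a, b, a ^^^ b] = tv a * tv b * tv (a ^^^ b) by simp [evalW, mul_assoc],
      conj_mul', conj_mul', conj_tv g ha', conj_tv g hb', conj_tv g (xor_lt ha' hb'), ap_xor, g1, g2]
    rfl
  · have hc' : c < 64 := by omega
    have hne : ∀ {x : ℕ}, Nat.beq c x = false → c ≠ x := fun h e => by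
      rw [← e, Nat.beq_refl] at h; exact absurd h (by decide)
    obtain ⟨g, g1, g2, g3⟩ := frame_three ha' hb' hc' ha0' hb0' hab' (lag hb ha) (hne hc0) (hne hca)
      (hne hcb) (hne hcab) (lag hcl ha) (lag hcl hb)
    refine ⟨g, Or.inr (Or.inr (Or.inr ?_))⟩
    rw [fixer_word hA hu (w := [a, b, c]) (by simp [ha, hb, hcl]) hc,
      show evalW tv [a, b, c] = tv a * tv b * tv c by simp [evalW, mul_assoc],
      conj_mul', conj_mul', conj_tv g ha', conj_tv g hb', conj_tv g hc', g1, g2, g3]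
    rfl

/-- The displacement of a code. -/
noncomputable def disp (A : Sp) (x : ℕ) : ℕ := ap A x ^^^ x

theorem disp_lt (A : Sp) {x : ℕ} (hx : x < 64) : disp A x < 64 := xor_lt (ap_lt _ _) hx

theorem ap_disp {A : Sp} (hA : A * A = 1) {x : ℕ} (hx : x < 64) : ap A (disp A x) = disp A x := by
  rw [disp, ap_xor, ← ap_mul, hA, ap_one hx, Nat.xor_comm]

theorem bB_fixed {A : Sp} {v y : ℕ} (hv : v < 64) (hy : y < 64) (h : ap A v = v) :
    bB v (disp A y) = false := by
  have e := bB_ap A hv hy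
  rw [h] at e
  rw [disp, bB_xor_right, e, Bool.xor_self]

/-- The four classes of involutions. -/
theorem invol_classes {A : Sp} (hA : A * A = 1) (h1 : A ≠ 1) :
    ∃ g : Sp, g * A * g⁻¹ = tT ∨ g * A * g⁻¹ = cT ∨ g * A * g⁻¹ = aT ∨ g * A * g⁻¹ = bT := by
  have hiso : ∀ x y, x < 64 → y < 64 → bB (disp A x) (disp A y) = false := fun x y hx hy =>
    bB_fixed (disp_lt A hx) hy (ap_disp hA hx)
  have key : ∃ g : Sp, ∀ y, y < 64 → ap g (disp A y) < 8 := by
    by_cases e1 : ∀ y, y < 64 → disp A y = 0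
    · exact ⟨1, fun y hy => by rw [e1 y hy, ap_zero]; norm_num⟩
    push Not at e1
    obtain ⟨a, ha, ha0⟩ := e1
    obtain ⟨g, hg⟩ := move_one (disp_lt A ha) ha0
    by_cases e2 : ∀ y, y < 64 → ap g (disp A y) < 8
    · exact ⟨g, e2⟩
    push Not at e2
    obtain ⟨b, hb, hb8⟩ := e2
    have hb1 : bB (ap g (disp A b)) 1 = false := (congrArg (bB _) hg.symm).trans ((bB_ap g (disp_lt A hb) (disp_lt A ha)).trans (hiso b a hb ha))
    obtain ⟨g2, k1, k2⟩ := move_two (ap_lt g _) hb1 (by omega)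
    by_cases e3 : ∀ y, y < 64 → ap (g2 * g) (disp A y) < 8
    · exact ⟨_, e3⟩
    push Not at e3
    obtain ⟨c, hc, hc8⟩ := e3
    have m1 : ap (g2 * g) (disp A a) = 1 := by rw [ap_mul, hg, k1]
    have m2 : ap (g2 * g) (disp A b) = 2 := by rw [ap_mul, k2]
    have hc1 : bB (ap (g2 * g) (disp A c)) 1 = false := (congrArg (bB _) m1.symm).trans ((bB_ap _ (disp_lt A hc) (disp_lt A ha)).trans (hiso c a hc ha))
    have hc2 : bB (ap (g2 * g) (disp A c)) 2 = false := (congrArg (bB _) m2.symm).trans ((bB_ap _ (disp_lt A hc) (disp_lt A hb)).trans (hiso c b hc hb))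
    obtain ⟨g3, l1, l2, l3⟩ := move_three (ap_lt (g2 * g) _) hc1 hc2 (by omega)
    refine ⟨g3 * (g2 * g), fun y hy => ?_⟩
    have n1 : ap (g3 * (g2 * g)) (disp A a) = 1 := by rw [ap_mul, m1, l1]
    have n2 : ap (g3 * (g2 * g)) (disp A b) = 2 := by rw [ap_mul, m2, l2]
    have n4 : ap (g3 * (g2 * g)) (disp A c) = 4 := by rw [ap_mul, l3]
    set h := g3 * (g2 * g)
    have p1 : bB (ap h (disp A y)) 1 = false := (congrArg (bB _) n1.symm).trans ((bB_ap _ (disp_lt A hy) (disp_lt A ha)).trans (hiso y a hy ha))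
    have p2 : bB (ap h (disp A y)) 2 = false := (congrArg (bB _) n2.symm).trans ((bB_ap _ (disp_lt A hy) (disp_lt A hb)).trans (hiso y b hy hb))
    have p4 : bB (ap h (disp A y)) 4 = false := (congrArg (bB _) n4.symm).trans ((bB_ap _ (disp_lt A hy) (disp_lt A hc)).trans (hiso y c hy hc))
    have := allBelow_eq_true.mp perp_check _ (ap_lt h (disp A y))
    rw [p1, p2, p4] at this
    simpa [Nat.blt_eq] using this
  obtain ⟨g, hg⟩ := key
  set A' := g * A * g⁻¹ with hA'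
  have hA2 : A' * A' = 1 := by
    rw [hA', show g * A * g⁻¹ * (g * A * g⁻¹) = g * (A * A) * g⁻¹ by group, hA]
    group
  have hsmall : ∀ y, y < 64 → disp A' y < 8 := fun y hy => by
    have hy' := ap_lt g⁻¹ y
    have e : ap g (ap g⁻¹ y) = y := by rw [← ap_mul, mul_inv_cancel, ap_one hy]
    have h2 := hg _ hy'
    rw [disp, ap_xor, e] at h2
    rwa [disp, hA', ap_mul, ap_mul]
  have hfix : A' ∈ fixer := fun l hl => by
    have hl' : l < 64 := by omega
    have h0 : ∀ y, y < 64 → bB (disp A' l) y = false := fun y hy => by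
      have e := bB_ap A' (ap_lt A' l) hy
      rw [← ap_mul, hA2, ap_one hl'] at e
      have h3 : bB l (disp A' y) = false := lag hl (hsmall y hy)
      rw [disp, bB_xor_right, e] at h3
      rw [bB_symm (disp_lt A' hl') hy, disp, bB_xor_right, bB_symm hy (ap_lt A' l), bB_symm hy hl']
      exact h3
    have hn := allBelow_eq_true.mp nondeg_check _ (disp_lt A' hl')
    simp only [h0 1 (by norm_num), h0 2 (by norm_num), h0 4 (by norm_num), h0 8 (by norm_num),
      h0 16 (by norm_num), h0 32 (by norm_num), Bool.or_false, Nat.beq_eq] at hn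
    exact Nat.xor_eq_zero_iff.1 hn
  have hne : A' ≠ 1 := fun e => h1 (conj_eq_one_iff.1 e)
  obtain ⟨g', hg'⟩ := fixer_classes hfix hne
  refine ⟨g' * g, ?_⟩
  rwa [show g' * g * A * (g' * g)⁻¹ = g' * A' * g'⁻¹ by rw [hA']; group]

theorem aT_eq : aT = evalW tv [1, 2, 3] := by
  simp only [aT, evalW, List.map_cons, List.map_nil, List.prod_cons, List.prod_nil, mul_one, mul_assoc]

theorem ap_aT {x : ℕ} (hx : x < 64) : ap aT x = tvApp [1, 2, 3] x := by
  rw [aT_eq]
  exact (ap_word [1, 2, 3] (by simp) x hx).1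

theorem aT_fixed {a : ℕ} (ha : a ∈ [1, 2, 4, 32]) : ap aT a = a := by
  have ha' : a < 64 := by
    simp only [List.mem_cons, List.not_mem_nil, or_false] at ha
    omega
  rw [ap_aT ha']
  have := allBelow_eq_true.mp w_check a ha'
  rw [List.elem_iff.2 ha, Bool.not_true, Bool.false_or] at this
  exact Nat.eq_of_beq_eq_true this

/-- An element moving no centre of the transvections commuting with `aT` is short. -/
theorem centre_fixer {B : Sp} (hB : ∀ a, a < 64 → ap aT a = a → ap B a = a) (h1 : B ≠ 1) (ha : B ≠ aT) :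
    ∃ g : Sp, g * B * g⁻¹ = tT ∨ g * B * g⁻¹ = cT := by
  have b1 := hB 1 (by norm_num) (aT_fixed (by simp))
  have b2 := hB 2 (by norm_num) (aT_fixed (by simp))
  have b4 := hB 4 (by norm_num) (aT_fixed (by simp))
  have b32 := hB 32 (by norm_num) (aT_fixed (by simp))
  have hfix : B ∈ fixer := fun l hl => by
    interval_cases l
    · exact ap_zero B
    · exact b1
    · exact b2
    · rw [show (3 : ℕ) = 1 ^^^ 2 from rfl, ap_xor, b1, b2]
    · exact b4
    · rw [show (5 : ℕ) = 1 ^^^ 4 from rfl, ap_xor, b1, b4]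
    · rw [show (6 : ℕ) = 2 ^^^ 4 from rfl, ap_xor, b2, b4]
    · rw [show (7 : ℕ) = 1 ^^^ 2 ^^^ 4 from rfl, ap_xor, ap_xor, b1, b2, b4]
  obtain ⟨i, hi, j, hj, k, hk, hu⟩ := fixer_form hfix
  have hc := allBelow_eq_true.mp (allBelow_eq_true.mp (allBelow_eq_true.mp fix32_check i hi) j hj) k hk
  simp only [← hu 8 (by norm_num), ← hu 16 (by norm_num), ← hu 32 (by norm_num), b32,
    bB_ap B (show 8 < 64 by norm_num) (show 16 < 64 by norm_num),
    (show bB (ap B 8) 32 = bB 8 32 by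
      rw [← bB_ap B (show 8 < 64 by norm_num) (show 32 < 64 by norm_num), b32]),
    (show bB (ap B 16) 32 = bB 16 32 by
      rw [← bB_ap B (show 16 < 64 by norm_num) (show 32 < 64 by norm_num), b32]),
    Nat.beq_refl, beq_self_eq_true, Bool.not_true, Bool.false_or, Bool.or_eq_true, List.any_eq_true,
    List.mem_range, Bool.and_eq_true, Bool.not_eq_true'] at hc
  rcases hc with (hc | hc) | ⟨a, ha4, ha0, hc | ⟨b, hb4, ⟨hb0, hab⟩, hc⟩⟩
  · exact absurd (fixer_word hfix hu (w := []) (by simp) hc) (by simpa [evalW] using h1)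
  · exact absurd (fixer_word hfix hu (w := [1, 2, 3]) (by simp) hc) (by simpa [evalW, aT, mul_assoc] using ha)
  all_goals have ha' : a < 64 := by omega
  all_goals have ha0' : a ≠ 0 := fun e => by rw [e] at ha0; exact absurd ha0 (by decide)
  · obtain ⟨g, hg⟩ := conj_to_tT ha' ha0'
    refine ⟨g, Or.inl ?_⟩
    rw [fixer_word hfix hu (w := [a]) (by simp; omega) hc]
    simpa [evalW] using hg
  · have hb0' : b ≠ 0 := fun e => by rw [e] at hb0; exact absurd hb0 (by decide)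
    have hab' : a ≠ b := fun e => by rw [e, Nat.beq_refl] at hab; exact absurd hab (by decide)
    obtain ⟨g, hg⟩ := conj_to_cT ha' (show b < 64 by omega) ha0' hb0' hab' (lag (by omega) (by omega))
    refine ⟨g, Or.inr ?_⟩
    rw [fixer_word hfix hu (w := [a, b]) (by simp; omega) hc]
    simpa [evalW] using hg

/-- An element commuting with `aT`, none of whose commutators with transvections commuting with `aT` has order
three, leads to a transvection or a product of two commuting ones. -/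
theorem normal_cases {B : Sp} (h1 : B ≠ 1) (ha : B ≠ aT)
    (h4 : ∀ a, a < 64 → ap aT a = a → (tv (ap B a) * tv a) ^ 4 = 1) :
    (∃ g : Sp, g * B * g⁻¹ = tT ∨ g * B * g⁻¹ = cT) ∨
      ∃ a, a < 64 ∧ ap aT a = a ∧ ∃ g : Sp, g * (tv (ap B a) * tv a) * g⁻¹ = cT := by
  by_cases hB : ∀ a, a < 64 → ap aT a = a → ap B a = a
  · exact Or.inl (centre_fixer hB h1 ha)
  push Not at hB
  obtain ⟨a, hl, hfa, hne⟩ := hB
  have ha0 : a ≠ 0 := fun e => hne (by rw [e, ap_zero])
  set b := ap B a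
  have hb : b < 64 := ap_lt B a
  have hb0 : b ≠ 0 := fun e => ha0 (by rw [← ap_inv_ap B hl, show ap B a = b from rfl, e, ap_zero])
  refine Or.inr ⟨a, hl, hfa, ?_⟩
  cases hB' : bB b a
  · exact conj_to_cT hb hl hb0 ha0 hne hB'
  exfalso
  obtain ⟨g₁, hg₁⟩ := conj_to_tT hb hb0
  obtain ⟨g₂, hg₂⟩ := conj_to_tT hl ha0
  have hg : g₂⁻¹ * g₁ * tv b * (g₂⁻¹ * g₁)⁻¹ = tv a := by
    rw [show g₂⁻¹ * g₁ * tv b * (g₂⁻¹ * g₁)⁻¹ = g₂⁻¹ * (g₁ * tv b * g₁⁻¹) * g₂ by group, hg₁, ← hg₂]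
    group
  have h3 := trans3_tv hb hb0 (g₂⁻¹ * g₁)
  rw [hg] at h3
  rcases h3 with h3 | h3
  · rw [pow_two, mul_eq_one_iff_eq_inv, mul_inv_rev, inv_eq_of_mul_eq_one_right (tv_sq hl),
      inv_eq_of_mul_eq_one_right (tv_sq hb)] at h3
    have e := ap_eq_of_comm hl h3
    rw [ap_tv hb hl, tvImg] at e
    have hab := bB_symm hl hb
    rw [hB'] at hab
    rw [hab, cond_true] at e
    exact hb0 (Nat.xor_right_injective (e.trans (Nat.xor_zero a).symm))
  have h5 := h4 a hl hfa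
  rw [pow_succ, h3, one_mul, mul_eq_one_iff_eq_inv, inv_eq_of_mul_eq_one_right (tv_sq hl)] at h5
  exact hne (tv_inj hb hl h5)

end Cfsg.Agent.CoTwoUniq.Cent
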