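import Cfsg.Agent.CoTwoType.Setting
import Cfsg.Agent.SympMult.SpSix

/-!
Kernel checks on the codes of the spin images of the transvections of `Sp6(2)`.
-/

set_option autoImplicit false
set_option maxRecDepth 100000

open Cfsg.Agent.Compute Cfsg.Agent.CoOneType
open Cfsg.Agent.CoTwoType (tn)
open Cfsg.Agent.SympMult.SpSix (tvImg)

namespace Cfsg.Agent.CoTwoUniq.Cent

theorem tn_basic : (allBelow 64 fun a => allBelow 256 fun v =>
    Nat.blt (tn a v) 256 && (qn (tn a v) == qn v) && Nat.beq (tn a (tn a v)) v) = true := by
  decide +kernel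

theorem tn_conj : (allBelow 64 fun a => allBelow 64 fun b => allBelow 8 fun n =>
    Nat.beq (tn b (tn a (1 <<< n))) (tn (tvImg b a) (tn b (1 <<< n)))) = true := by
  decide +kernel

theorem tn_inj_check : (allBelow 64 fun a => allBelow 64 fun b => Nat.beq a b ||
    !(allBelow 8 fun n => Nat.beq (tn a (1 <<< n)) (tn b (1 <<< n)))) = true := by
  decide +kernel

theorem tn_zero_check : (allBelow 256 fun v => Nat.beq (tn 0 v) v) = true := by decide +kernel

/-- The fixed space, its totally singular shape and its orthogonal, for a map on codes. -/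
noncomputable def fixB (f : ℕ → ℕ) : Bool := allBelow 256 fun v =>
  (!(Nat.beq (f v) v) || (!(qn v) && (List.range 256).any fun u => Nat.beq (f u ^^^ u) v)) &&
    (Nat.beq (f v) v || (List.range 256).any fun w => Nat.beq (f w) w && Bn v w)

theorem tn_fix_t : fixB (tn 1) = true := by decide +kernel

theorem tn_fix_c : fixB (fun v => tn 2 (tn 3 v)) = true := by decide +kernel

end Cfsg.Agent.CoTwoUniq.Cent
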