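import Cfsg.Agent.CoTwoUniq.Cent.Spin
import Cfsg.Agent.CoTwoUniq.Cent.InvolClasses

/-!
The spin images of the two further classes of involutions: the axis of one is short and totally singular,
that of the other has a non-singular displacement.
-/

set_option autoImplicit false
set_option maxRecDepth 100000

open Cfsg Cfsg.Agent.ThreeTrans.OrthCohom Cfsg.Agent.Classical.Quad QuadraticMap Cfsg.Agent.LargeExtra
  Cfsg.Agent.CoOneType
open Cfsg.Agent.Compute Cfsg.Agent.CoTwoType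
open scoped Classical

namespace Cfsg.Agent.CoTwoUniq.Cent

/-- The image of the product of the three transvections of a line. -/
noncomputable def aS : ↥sp6 := ⟨tO 1 * tO 2 * tO 3, mul_mem (mul_mem (tO_mem 1) (tO_mem 2)) (tO_mem 3)⟩

/-- The image of the product of three transvections with independent orthogonal centres. -/
noncomputable def bS : ↥sp6 := ⟨tO 1 * tO 2 * tO 4, mul_mem (mul_mem (tO_mem 1) (tO_mem 2)) (tO_mem 4)⟩

theorem χ_aS : χ aS = aT := by
  rw [show aS = ⟨tO 1, tO_mem 1⟩ * ⟨tO 2, tO_mem 2⟩ * ⟨tO 3, tO_mem 3⟩ from rfl, map_mul, map_mul,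
    χ_tO, χ_tO, χ_tO]
  rfl

theorem χ_bS : χ bS = bT := by
  rw [show bS = ⟨tO 1, tO_mem 1⟩ * ⟨tO 2, tO_mem 2⟩ * ⟨tO 4, tO_mem 4⟩ from rfl, map_mul, map_mul,
    χ_tO, χ_tO, χ_tO]
  rfl

/-- The map of `aS` on codes. -/
noncomputable def aF (v : ℕ) : ℕ := tn 1 (tn 2 (tn 3 v))

/-- The map of `bS` on codes. -/
noncomputable def bF (v : ℕ) : ℕ := tn 1 (tn 2 (tn 4 v))

theorem aS_dc {v : ℕ} (hv : v < 256) : aS.1.1 (dc v) = dc (aF v) ∧ aF v < 256 := by
  have h3 : tn 3 v < 256 := tn_lt (by norm_num) hv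
  have h2 : tn 2 (tn 3 v) < 256 := tn_lt (by norm_num) h3
  refine ⟨?_, tn_lt (by norm_num) h2⟩
  show (tO 1 * tO 2 * tO 3).1 (dc v) = _
  rw [oG_mul_apply, oG_mul_apply, tO_dc 3 hv]
  exact (congrArg (tO 1).1 (tO_dc 2 h3)).trans (tO_dc 1 h2)

theorem bS_dc {v : ℕ} (hv : v < 256) : bS.1.1 (dc v) = dc (bF v) := by
  have h3 : tn 4 v < 256 := tn_lt (by norm_num) hv
  have h2 : tn 2 (tn 4 v) < 256 := tn_lt (by norm_num) h3
  show (tO 1 * tO 2 * tO 4).1 (dc v) = _
  rw [oG_mul_apply, oG_mul_apply, tO_dc 4 hv]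
  exact (congrArg (tO 1).1 (tO_dc 2 h3)).trans (tO_dc 1 h2)

theorem aF_check : (allBelow 256 fun v =>
    (!(Nat.beq (aF v) v) || ((List.range 256).any fun w => Nat.beq (aF w) w && Bn v w) ||
      (List.range 256).any fun u => Nat.beq (aF u ^^^ u) v) &&
    List.elem (aF v ^^^ v) [0, 8, 16, 24]) = true := by
  decide +kernel

theorem bF_check : ((List.range 256).any fun v => qn (bF v ^^^ v)) = true := by decide +kernel

/-- A fixed vector orthogonal to the axis is a displacement. -/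
theorem aS_range {x : V} (hf : aS.1.1 x = x) (hp : ∀ v, aS.1.1 v = v → Bp x v = 0) :
    ∃ y, aS.1.1 y + y = x := by
  obtain ⟨i, rfl⟩ := dc_surj x
  have h := allBelow_eq_true.mp aF_check i i.2
  simp only [Bool.and_eq_true, Bool.or_eq_true, Bool.not_eq_true', List.any_eq_true, List.mem_range,
    Nat.beq_eq] at h
  obtain ⟨(h | ⟨w, hw, hfw, hb⟩) | ⟨u, hu, e⟩, -⟩ := h
  · rw [dc_inj (aS_dc i.2).2 i.2 ((aS_dc i.2).1.symm.trans hf), Nat.beq_refl] at h
    exact absurd h (by simp)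
  · have e := hp (dc w) (by rw [(aS_dc hw).1, hfw])
    rw [Bp_dc i.2 hw, hb] at e
    exact absurd e (by decide)
  · exact ⟨dc u, by rw [(aS_dc hu).1, ← dc_xor, e]⟩

/-- There are four displacements. -/
theorem aS_disp (y : V) : ∃ k : Fin 4, aS.1.1 y + y = dc (8 * k.val) := by
  obtain ⟨i, rfl⟩ := dc_surj y
  have h := allBelow_eq_true.mp aF_check i i.2
  rw [Bool.and_eq_true, List.elem_iff] at h
  rw [(aS_dc i.2).1, ← dc_xor]
  simp only [List.mem_cons, List.not_mem_nil, or_false] at h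
  rcases h.2 with e | e | e | e <;> rw [e]
  exacts [⟨0, rfl⟩, ⟨1, rfl⟩, ⟨2, rfl⟩, ⟨3, rfl⟩]

theorem bS_nonsing : ∃ y, qP 4 (bS.1.1 y + y) = 1 := by
  obtain ⟨v, hv, h⟩ := List.any_eq_true.1 bF_check
  rw [List.mem_range] at hv
  refine ⟨dc v, ?_⟩
  have hlt : bF v < 256 := tn_lt (by norm_num) (tn_lt (by norm_num) (tn_lt (by norm_num) hv))
  rw [bS_dc hv, ← dc_xor, q_dc (CoOneType.xor_lt hlt hv), h]
  rfl

end Cfsg.Agent.CoTwoUniq.Cent
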